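import Groth.Agent.SerreDual.ExtShRep
import Groth.Agent.DCat.TensorAssoc
import Groth.Agent.SiteCoh.Derived
import Groth.Agent.SpecSeq.HomSS
import Groth.Agent.SpecSeq.Grothendieck

/-!
# Internal homs out of direct images along closed immersions
-/

set_option autoImplicit false
set_option backward.isDefEq.respectTransparency false
set_option linter.style.haveILetI false

universe u

open CategoryTheory CategoryTheory.Limits AlgebraicGeometry
open Groth.Agent.Coherent Groth.Agent.DCat

namespace Groth.Agent.ExtSS

variable {X P : Scheme.{u}} (ι : X ⟶ P) [IsClosedImmersion ι] (E F : X.Modules)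

/-- `F ↦ ι_*(E ⊗ F)`. -/
noncomputable abbrev pushTens : X.Modules ⥤ P.Modules := tensE E ⋙ Scheme.Modules.pushforward ι

/-- `G ↦ Hom(E, ι^! G)`. -/
noncomputable abbrev twistShriek : P.Modules ⥤ X.Modules := SerreDual.shriekR ι ⋙ internalHomFunctor E

/-- The defining adjunction. -/
noncomputable def pushTensAdj : pushTens ι E ⊣ twistShriek ι E :=
  (tensorHomAdj E).comp (SerreDual.shriekAdj ι)

/-- The projection formula. -/
noncomputable def tensPushIso : tensE ((Scheme.Modules.pushforward ι).obj E) ≅
    Scheme.Modules.pullback ι ⋙ tensE E ⋙ Scheme.Modules.pushforward ι :=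
  NatIso.ofComponents (fun N => asIso (ClosedPush.projMap ι E N))
    fun {N N'} ψ => ClosedPush.projMap_nat₂ ι E ψ

/-- `Hom(ι_* E, -)` is a direct image. -/
noncomputable def internalHomPushForwardIso :
    internalHomFunctor ((Scheme.Modules.pushforward ι).obj E) ≅ twistShriek ι E ⋙ Scheme.Modules.pushforward ι :=
  (tensorHomAdj ((Scheme.Modules.pushforward ι).obj E)).rightAdjointUniq
    (((Scheme.Modules.pullbackPushforwardAdjunction ι).comp (pushTensAdj ι E)).ofNatIsoLeft (tensPushIso ι E).symm)

/-- `Hom(ι_* E, -)` of the prelude is a direct image. -/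
noncomputable def sheafHomPushIso [ModSite.HasSheafHom (O := P.sheaf) ((Scheme.Modules.pushforward ι).obj E)] :
    ModSite.sheafHom (O := P.sheaf) ((Scheme.Modules.pushforward ι).obj E) ≅
      twistShriek ι E ⋙ Scheme.Modules.pushforward ι :=
  (SerreDual.msSheafHomIso _).trans (internalHomPushForwardIso ι E)

/-- The associator in the last variable. -/
noncomputable def tensTensIso : tensE F ⋙ tensE E ≅ tensE (CohB1.tensorMod E F) :=
  (NatIso.ofComponents (fun R => TensorAssoc.assocIso E F R) fun h => TensorAssoc.assocIso_nat₃ h :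
    tensE ((tensE E).obj F) ≅ tensE F ⋙ tensE E).symm

/-- `Hom(ι_*(E ⊗ F), -) = ι_* Hom(F, Hom(E, ι^! -))`. -/
noncomputable def internalHomTensPushIso :
    internalHomFunctor ((Scheme.Modules.pushforward ι).obj (CohB1.tensorMod E F)) ≅
      twistShriek ι E ⋙ internalHomFunctor F ⋙ Scheme.Modules.pushforward ι :=
  (tensorHomAdj ((Scheme.Modules.pushforward ι).obj (CohB1.tensorMod E F))).rightAdjointUniq
    ((((Scheme.Modules.pullbackPushforwardAdjunction ι).comp (tensorHomAdj F)).comp (pushTensAdj ι E)).ofNatIsoLeft
      ((tensPushIso ι (CohB1.tensorMod E F)).trans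
        (Functor.isoWhiskerLeft (Scheme.Modules.pullback ι)
          (Functor.isoWhiskerRight (tensTensIso E F).symm (Scheme.Modules.pushforward ι)))).symm)

theorem preservesFiniteColimits_pushforward :
    PreservesFiniteColimits (Scheme.Modules.pushforward ι) :=
  haveI := (SerreDual.shriekAdj ι).isLeftAdjoint
  inferInstance

theorem preservesFiniteLimits_pushforward :
    PreservesFiniteLimits (Scheme.Modules.pushforward ι) :=
  haveI := (Scheme.Modules.pullbackPushforwardAdjunction ι).isRightAdjoint
  inferInstance

variable {E}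

theorem preservesInjectiveObjects_twistShriek (hE : FlatMod.IsFinLocFree E) :
    (twistShriek ι E).PreservesInjectiveObjects := by
  haveI := preservesFiniteLimits_tensE hE
  haveI := preservesFiniteLimits_pushforward ι
  haveI : PreservesFiniteLimits (pushTens ι E) := comp_preservesFiniteLimits _ _
  exact ⟨fun {Q} hQ => Injective.injective_of_adjoint (pushTensAdj ι E) Q⟩

theorem injective_of_push_iso (hE : FlatMod.IsFinLocFree E) (Q : P.Modules) [Injective Q]
    [ModSite.HasSheafHom (O := P.sheaf) ((Scheme.Modules.pushforward ι).obj E)] {J : X.Modules}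
    (e : (Scheme.Modules.pushforward ι).obj J ≅
      (ModSite.sheafHom (O := P.sheaf) ((Scheme.Modules.pushforward ι).obj E)).obj Q) :
    Injective J := by
  haveI := preservesInjectiveObjects_twistShriek ι hE
  exact Injective.of_iso ((SerreDual.pushFF ι).preimageIso (e ≪≫ (sheafHomPushIso ι E).app Q)).symm
    ((twistShriek ι E).injective_obj_of_injective ‹Injective Q›)

end Groth.Agent.ExtSS
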