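import Groth.Agent.SerreDual.ExtShTensor
import Groth.Agent.SerreDual.ExtShTwist
import Groth.Agent.SiteCoh.Derived
import Groth.Agent.FlatMorAdm.LocFreeApps
import Groth.Agent.AmpleLib.Relative
import Groth.Agent.Coherent.CohBC.PushStructure

/-!
# Relative Ext sheaves and tensoring with locally free modules
-/

set_option autoImplicit false
set_option backward.isDefEq.respectTransparency false
set_option linter.style.haveILetI false

universe u

open CategoryTheory CategoryTheory.Limits AlgebraicGeometry Opposite
open Groth.Agent.Coherent Groth.Agent.SerreDual Groth.Agent.AmpleLib Groth.Agent.Coherent.CohBC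

namespace Groth.Agent.ExtSS

noncomputable section

section Derived

variable {A B : Type (u + 1)} [Category.{u} A] [Abelian A] [HasInjectiveResolutions A] [Category.{u} B] [Abelian B]

/-- Derived functors and exact precomposition preserving injectives. -/
def rightDerivedPrecompObjIso (T : A ⥤ A) [T.Additive] [PreservesFiniteLimits T] [PreservesFiniteColimits T]
    [T.PreservesInjectiveObjects] (F : A ⥤ B) [F.Additive] (p : ℕ) (Z : A) :
    (F.rightDerived p).obj (T.obj Z) ≅ ((T ⋙ F).rightDerived p).obj Z :=
  let I := injectiveResolution Z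
  (mapResolution T I).isoRightDerivedObj F p ≪≫ (I.isoRightDerivedObj (T ⋙ F) p).symm

end Derived

variable {X Y : Scheme.{u}} (f : X ⟶ Y)

/-- Pullback commutes with tensoring, as functors. -/
def pullTensorNatIso (D : Y.Modules) :
    tensE D ⋙ Scheme.Modules.pullback f ≅
      Scheme.Modules.pullback f ⋙ tensE ((Scheme.Modules.pullback f).obj D) :=
  NatIso.ofComponents (fun A => DCat.PullTensor.pullTensorIso f D A)
    fun g => DCat.PullTensor.pullTensorHom_nat₂ f D g

/-- Internal Hom out of a pullback, after pushforward. -/
theorem nonempty_internalHom_push (D : Y.Modules) :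
    Nonempty (internalHomFunctor ((Scheme.Modules.pullback f).obj D) ⋙ Scheme.Modules.pushforward f ≅
      Scheme.Modules.pushforward f ⋙ internalHomFunctor D) :=
  ⟨(((Scheme.Modules.pullbackPushforwardAdjunction f).comp
      (tensorHomAdj ((Scheme.Modules.pullback f).obj D))).ofNatIsoLeft (pullTensorNatIso f D).symm).rightAdjointUniq
    ((tensorHomAdj D).comp (Scheme.Modules.pullbackPushforwardAdjunction f))⟩

/-- The functor identity behind the projection formula for relative Ext. -/
theorem nonempty_comp_iso (F L : X.Modules) (D : Y.Modules) :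
    Nonempty (internalHomFunctor ((Scheme.Modules.pullback f).obj D) ⋙
        internalHomFunctor (CohB1.tensorMod F L) ⋙ Scheme.Modules.pushforward f ≅
      internalHomFunctor L ⋙ (internalHomFunctor F ⋙ Scheme.Modules.pushforward f) ⋙ internalHomFunctor D) := by
  obtain ⟨u⟩ := nonempty_internalHom_tensor F L
  obtain ⟨w⟩ := nonempty_internalHom_comm (CohB1.tensorMod F L) ((Scheme.Modules.pullback f).obj D)
  obtain ⟨v⟩ := nonempty_internalHom_push f D
  exact ⟨Functor.isoWhiskerRight w (Scheme.Modules.pushforward f) ≪≫
    Functor.isoWhiskerLeft (internalHomFunctor (CohB1.tensorMod F L)) v ≪≫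
    Functor.isoWhiskerRight u (Scheme.Modules.pushforward f ⋙ internalHomFunctor D)⟩

/-- Double duals of finite locally free modules. -/
theorem nonempty_dual_dual {E : X.Modules} (hE : FlatMod.IsFinLocFree E) :
    Nonempty (internalHom (internalHom E (Coh.structureModule X)) (Coh.structureModule X) ≅ E) := by
  haveI := isIso_contract hE (Coh.structureModule X)
  exact ⟨((unitTensorIso E).symm ≪≫ tensorComm _ _ ≪≫
    asIso (contractBilin E (Coh.structureModule X)).desc).symm⟩

/-- Dual of the pullback of a dual. -/
theorem nonempty_pullback_dual_dual {N : Y.Modules} (hN : FlatMod.IsFinLocFree N) :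
    Nonempty (internalHom ((Scheme.Modules.pullback f).obj (internalHom N (Coh.structureModule Y)))
      (Coh.structureModule X) ≅ (Scheme.Modules.pullback f).obj N) := by
  have hD := isFinLocFree_internalHom hN (isFinLocFree_structureModule Y)
  obtain ⟨e⟩ := exists_pullStructureIso f
  obtain ⟨g⟩ := nonempty_dual_dual hN
  haveI := isIso_pullHom (internalHom N (Coh.structureModule Y)) (Coh.structureModule Y) f hD
    (isFinLocFree_structureModule Y)
  exact ⟨(internalHomFunctor _).mapIso e.symm ≪≫
    (asIso (pullHom (internalHom N (Coh.structureModule Y)) (Coh.structureModule Y) f)).symm ≪≫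
    (Scheme.Modules.pullback f).mapIso g⟩

/-- The relative internal Hom functor. -/
abbrev intRelHom (F : X.Modules) : X.Modules ⥤ Y.Modules := internalHomFunctor F ⋙ Scheme.Modules.pushforward f

/-- Projection formula for relative Ext. -/
theorem nonempty_relExt_tensor_iso [HasInjectiveResolutions X.Modules] (F G L : X.Modules) (N : Y.Modules)
    (hL : FlatMod.IsFinLocFree L) (hN : FlatMod.IsFinLocFree N) (p : ℕ) [∀ M : X.Modules, (intRelHom f M).Additive] :
    Nonempty (((intRelHom f (CohB1.tensorMod F L)).rightDerived p).obj
        (CohB1.tensorMod G ((Scheme.Modules.pullback f).obj N)) ≅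
      CohB1.tensorMod (((intRelHom f F).rightDerived p).obj
        (CohB1.tensorMod G (internalHom L (Coh.structureModule X)))) N) := by
  let D := internalHom N (Coh.structureModule Y)
  let D' := (Scheme.Modules.pullback f).obj D
  have hD : FlatMod.IsFinLocFree D := isFinLocFree_internalHom hN (isFinLocFree_structureModule Y)
  have hD' : FlatMod.IsFinLocFree D' := FlatMorAdm.isFinLocFree_pullback f hD
  obtain ⟨dd⟩ := nonempty_pullback_dual_dual f hN
  obtain ⟨tX⟩ := nonempty_internalHom_eq_tensor hD' G
  obtain ⟨tL⟩ := nonempty_internalHom_eq_tensor hL G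
  let R := ((intRelHom f F).rightDerived p).obj (internalHom L G)
  obtain ⟨tY⟩ := nonempty_internalHom_eq_tensor hD R
  obtain ⟨dY⟩ := nonempty_dual_dual hN
  obtain ⟨c⟩ := nonempty_comp_iso f F L D
  let T := internalHomFunctor D'
  let S := internalHomFunctor L
  let Q := internalHomFunctor D
  haveI : PreservesFiniteLimits T := preservesFiniteLimits_internalHom D'
  haveI : PreservesFiniteColimits T := preservesFiniteColimits_internalHom hD'
  haveI : T.PreservesInjectiveObjects := preservesInjectives_internalHom hD'
  haveI : T.Additive := additive_internalHomFunctor D'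
  haveI : PreservesFiniteLimits S := preservesFiniteLimits_internalHom L
  haveI : PreservesFiniteColimits S := preservesFiniteColimits_internalHom hL
  haveI : S.PreservesInjectiveObjects := preservesInjectives_internalHom hL
  haveI : S.Additive := additive_internalHomFunctor L
  haveI : PreservesFiniteLimits Q := preservesFiniteLimits_internalHom D
  haveI : PreservesFiniteColimits Q := preservesFiniteColimits_internalHom hD
  haveI : Q.Additive := additive_internalHomFunctor D
  let Φ := intRelHom f (CohB1.tensorMod F L)
  let a : CohB1.tensorMod G ((Scheme.Modules.pullback f).obj N) ≅ T.obj G :=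
    tensorComm _ _ ≪≫ ((DCoh.tensorBi (X := X)).mapIso dd.symm).app G ≪≫ tX.symm
  let b : internalHom L G ≅ CohB1.tensorMod G (internalHom L (Coh.structureModule X)) := tL ≪≫ tensorComm _ _
  exact ⟨(Φ.rightDerived p).mapIso a ≪≫ rightDerivedPrecompObjIso T Φ p G ≪≫
    (SiteCoh.rightDerivedCongr (show T ⋙ Φ ≅ (S ⋙ intRelHom f F) ⋙ Q from c) p).app G ≪≫
    (SiteCoh.rightDerivedCompExactIso (S ⋙ intRelHom f F) Q p).app G ≪≫
    Q.mapIso (rightDerivedPrecompObjIso S (intRelHom f F) p G).symm ≪≫
    tY ≪≫ ((DCoh.tensorBi (X := Y)).mapIso dY).app R ≪≫ tensorComm _ _ ≪≫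
    ((DCoh.tensorBi (X := Y)).mapIso (((intRelHom f F).rightDerived p).mapIso b)).app N⟩

end

end Groth.Agent.ExtSS
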