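import Groth.Prelude.Def_ExtSupp
import Groth.Agent.DerCompLib.SecEquiv
import Groth.Agent.SiteTen.Stable
import Groth.Agent.DerCompLib.RestrAdj
import Groth.Agent.SiteHom16.Basic
import Groth.Agent.SiteDer16.FreeHom
import Groth.Agent.S0491

/-!
# Modules null on an object of a ringed site, and the two support functors
-/

set_option autoImplicit false
set_option backward.isDefEq.respectTransparency false

universe u

open CategoryTheory CategoryTheory.Limits Opposite
open Groth.Agent.DerCompLib

namespace Groth.Agent.ExtSS

variable {C : Type u} [SmallCategory C] {J : GrothendieckTopology C} {O : Sheaf J CommRingCat.{u}}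

theorem sec_ext {F : ModSite.Mod O} {V : C} (x y : Sec F V) (S : Sieve V) (hS : S ∈ J V)
    (h : ∀ ⦃W : C⦄ (g : W ⟶ V), S g → secRes F g x = secRes F g y) : x = y := by
  have hF := (isSheaf_iff_isSheaf_of_type J (((SheafOfModules.toSheaf (ModSite.ringSh O)).obj F).obj ⋙
    CategoryTheory.forget AddCommGrpCat.{u})).1 ((Presheaf.isSheaf_iff_isSheaf_forget J _
      (CategoryTheory.forget AddCommGrpCat.{u})).1 ((SheafOfModules.toSheaf (ModSite.ringSh O)).obj F).property)
  exact (hF S hS).isSeparatedFor.ext fun W g hg => h g hg

variable (U : C)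

theorem isNullOn_sec {K : ModSite.Mod O} (hK : ModSite.IsNullOn O U K) {V : C} (g : V ⟶ U) (x : Sec K V) :
    x = 0 :=
  (ExtSupp.isNullOn_iff O U K).1 hK g x

section Pre

/-- Sections where the object does not map to `U`, zero elsewhere. -/
noncomputable def awayAb (G : ModSite.Mod O) : Cᵒᵖ ⥤ AddCommGrpCat.{u} where
  obj V := AddCommGrpCat.of (PLift (IsEmpty (V.unop ⟶ U)) → Sec G V.unop)
  map {V W} f := AddCommGrpCat.ofHom (AddMonoidHom.mk'
    (fun m q => secRes G f.unop (m ⟨⟨fun h => q.down.false (f.unop ≫ h)⟩⟩))
    fun a b => funext fun q => map_add (secRes G f.unop) _ _)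
  map_id V := by
    refine AddCommGrpCat.hom_ext (AddMonoidHom.ext fun m => funext fun q => ?_)
    exact G.val.congr_map_apply (show (𝟙 V).unop.op = 𝟙 V from rfl) (m q) |>.trans
      (ConcreteCategory.congr_hom (G.val.map_id V) (m q))
  map_comp {V W T} f g := by
    refine AddCommGrpCat.hom_ext (AddMonoidHom.ext fun m => funext fun q => ?_)
    exact PresheafOfModules.map_comp_apply G.val f g _

/-- The presheaf of modules of sections away from `U`. -/
noncomputable def awayPre (G : ModSite.Mod O) : ModSite.preMod O :=
  letI : ∀ V : Cᵒᵖ, Module ((O.obj ⋙ forget₂ CommRingCat.{u} RingCat.{u}).obj V) ((awayAb U G).obj V) := fun V =>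
    inferInstanceAs (Module (O.obj.obj V) (PLift (IsEmpty (V.unop ⟶ U)) → Sec G V.unop))
  PresheafOfModules.ofPresheaf (awayAb U G) fun {V W} f r m => funext fun q => secRes_smul G f.unop r (m _)

/-- Forgetting sections on objects over `U`. -/
noncomputable def toAway (G : ModSite.Mod O) : (ModSite.toPre O).obj G ⟶ awayPre U G :=
  PresheafOfModules.homMk
    { app := fun V => AddCommGrpCat.ofHom (X := G.val.obj V)
        (AddMonoidHom.mk' (fun x _ => x) fun _ _ => rfl)
      naturality := fun V W f => rfl }
    fun V r x => rfl

/-- Its sheafification. -/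
noncomputable def awayMod (G : ModSite.Mod O) : ModSite.Mod O := (ModSite.shPre O).obj (awayPre U G)

/-- The map from a module to the module of sections away from `U`. -/
noncomputable def awayMap (G : ModSite.Mod O) : G ⟶ awayMod U G :=
  ⟨toAway U G ≫ (SiteTen.shAdj O).unit.app (awayPre U G)⟩

theorem awayMap_sec (G : ModSite.Mod O) (V : C) (x : Sec G V) :
    secMap (awayMap U G) V x = (toSheafify J (awayAb U G)).app (op V) (fun _ => x) := rfl

theorem isNullOn_awayMod (G : ModSite.Mod O) : ModSite.IsNullOn O U (awayMod U G) := by
  rw [ExtSupp.isNullOn_iff]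
  intro V φ x
  refine sec_ext (F := awayMod U G) x 0 _ (Presheaf.imageSieve_mem J (toSheafify J (awayAb U G)) (U := op V) x)
    fun W g hg => ?_
  obtain ⟨m, hm⟩ := hg
  have hm0 : m = 0 := funext fun q => (q.down.false (g ≫ φ)).elim
  rw [hm0, map_zero] at hm
  rw [map_zero]
  exact hm.symm

/-- A section killed by the quotient is locally zero or defined over `U`. -/
theorem exists_sieve_of_quotOnπ_eq_zero (G : ModSite.Mod O) {V : C} (x : Sec G V)
    (hx : secMap ((ModSite.quotOnπ O U).app G) V x = 0) :
    ∃ S ∈ J V, ∀ ⦃W : C⦄ (g : W ⟶ V), S g → secRes G g x = 0 ∨ Nonempty (W ⟶ U) := by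
  have hc : (ModSite.extZeroAdj O U).counit.app G ≫ awayMap U G = 0 := by
    apply ((ModSite.extZeroAdj O U).homEquiv _ _).injective
    exact (isNullOn_awayMod U G).eq_of_tgt _ _
  let d : (ModSite.quotOn O U).obj G ⟶ awayMod U G :=
    cokernel.desc ((ModSite.extZeroAdj O U).counit.app G) (awayMap U G) hc
  have hd : (ModSite.quotOnπ O U).app G ≫ d = awayMap U G := cokernel.π_desc _ _ _
  have h0 : (toSheafify J (awayAb U G)).app (op V) (fun _ => x) =
      (toSheafify J (awayAb U G)).app (op V) 0 := by
    refine (awayMap_sec U G V x).symm.trans ?_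
    rw [← hd, secMap_comp]
    exact ((congrArg (secMap d V) hx).trans (map_zero _)).trans (map_zero _).symm
  refine ⟨_, Presheaf.equalizerSieve_mem J (toSheafify J (awayAb U G)) (X := op V) _ _ h0, fun W g hg => ?_⟩
  by_cases hW : Nonempty (W ⟶ U)
  · exact Or.inr hW
  · exact Or.inl ((congrFun hg ⟨⟨fun h => hW ⟨h⟩⟩⟩).trans (map_zero (secRes G g)))

end Pre

instance additive_quotOn : (ModSite.quotOn O U).Additive where
  map_add {F G f g} := by
    apply coequalizer.hom_ext
    erw [Preadditive.comp_add]
    simp [ModSite.quotOn, cokernel.map, Preadditive.add_comp]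

/-- `M ↦ M/M_U` preserves monomorphisms. -/
instance preservesMonomorphisms_quotOn : (ModSite.quotOn O U).PreservesMonomorphisms where
  preserves {F G} φ hφ := by
    haveI : ModSite.HasPushOver O U := DerCompLib.hasPushOver O U
    let π : F ⟶ (ModSite.quotOn O U).obj F := (ModSite.quotOnπ O U).app F
    let π' : G ⟶ (ModSite.quotOn O U).obj G := (ModSite.quotOnπ O U).app G
    have hπ : Epi π := inferInstanceAs (Epi (cokernel.π _))
    haveI := SiteDer16.preservesFiniteColimits_toSheaf (ModSite.ringSh O)
    have : Sheaf.IsLocallySurjective ((SheafOfModules.toSheaf (ModSite.ringSh O)).map π) :=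
      (Sheaf.isLocallySurjective_iff_epi' AddCommGrpCat.{u} _).2 inferInstance
    have hinj : ∀ (V : C) (y : Sec ((ModSite.quotOn O U).obj F) V),
        secMap ((ModSite.quotOn O U).map φ) V y = 0 → y = 0 := by
      intro V y hy
      refine sec_ext y 0 _ (Presheaf.imageSieve_mem J
        ((SheafOfModules.toSheaf (ModSite.ringSh O)).map π).hom (U := op V) y) fun W g hg => ?_
      obtain ⟨x', hx⟩ := hg
      let x : Sec F W := x'
      have hx' : secMap π W x = secRes _ g y := hx
      rw [map_zero, ← hx']
      have hφx : secMap π' W (secMap φ W x) = 0 := by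
        have hn : φ ≫ π' = π ≫ (ModSite.quotOn O U).map φ := (ModSite.quotOnπ O U).naturality φ
        refine (secMap_comp φ π' W x).symm.trans ?_
        rw [hn, secMap_comp]
        refine (congrArg (secMap _ W) hx').trans ?_
        exact (secMap_secRes _ g y).trans ((congrArg (secRes _ g) hy).trans (map_zero _))
      obtain ⟨S, hS, hloc⟩ := exists_sieve_of_quotOnπ_eq_zero U G (secMap φ W x) hφx
      refine sec_ext _ 0 S hS fun T h hh => ?_
      rw [map_zero, ← secMap_secRes]
      rcases hloc h hh with h0 | ⟨⟨k⟩⟩
      · rw [← secMap_secRes] at h0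
        have : Mono (φ.val.app (op T)) :=
          haveI : Mono φ.val := (SheafOfModules.forget _).map_mono φ
          ((PresheafOfModules.evaluation (ModSite.ringSh O).obj (op T)).map_mono φ.val)
        have h1 : secRes F h x = 0 :=
          (ModuleCat.mono_iff_injective (φ.val.app (op T))).1 this (h0.trans (map_zero (secMap φ T)).symm)
        exact (congrArg (secMap π T) h1).trans (map_zero _)
      · exact isNullOn_sec U (ExtSupp.isNullOn_quotOn O U F) k _
    have : Mono ((ModSite.quotOn O U).map φ).val := PresheafOfModules.mono_of_injective fun V a b hab => by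
      have := hinj V.unop (a - b) (by rw [map_sub]; exact sub_eq_zero.2 hab)
      exact sub_eq_zero.1 this
    exact (SheafOfModules.forget _).mono_of_mono_map this

section Adjunction

variable [ModSite.HasPushOver O U]

/-- A map from a null module composes to zero with the unit. -/
theorem comp_unit_eq_zero {X G : ModSite.Mod O} (hX : ModSite.IsNullOn O U X) (f : X ⟶ G) :
    f ≫ (ModSite.restrPushOverAdj O U).unit.app G = 0 := by
  apply ((ModSite.restrPushOverAdj O U).homEquiv X _).symm.injective
  exact hX.eq_of_src _ _

omit [ModSite.HasPushOver O U] in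
/-- A map to a null module composes to zero with the counit. -/
theorem counit_comp_eq_zero {M K : ModSite.Mod O} (hK : ModSite.IsNullOn O U K) (f : M ⟶ K) :
    (ModSite.extZeroAdj O U).counit.app M ≫ f = 0 := by
  apply ((ModSite.extZeroAdj O U).homEquiv _ _).injective
  exact hK.eq_of_tgt _ _

/-- Sections with support are null on `U`. -/
theorem isNullOn_sectOn (N : ModSite.Mod O) : ModSite.IsNullOn O U ((ModSite.sectOn O U).obj N) := by
  let adj := ModSite.restrPushOverAdj O U
  have h : kernel.ι (adj.unit.app N) ≫ adj.unit.app N = 0 := kernel.condition _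
  have hsplit : (ModSite.restr O U).map (adj.unit.app N) ≫ adj.counit.app _ = 𝟙 _ :=
    adj.left_triangle_components N
  have h2 : (ModSite.restr O U).map (kernel.ι (adj.unit.app N)) = 0 := by
    rw [← Category.comp_id ((ModSite.restr O U).map (kernel.ι (adj.unit.app N)))]
    refine (congrArg (_ ≫ ·) hsplit.symm).trans ?_
    rw [← Category.assoc, ← Functor.map_comp, h, Functor.map_zero, zero_comp]
  haveI : Mono ((ModSite.restr O U).map (kernel.ι (adj.unit.app N))) := inferInstance
  exact IsZero.of_mono_eq_zero _ h2

theorem sectOnι_lift {X G : ModSite.Mod O} (hX : ModSite.IsNullOn O U X) (f : X ⟶ G) :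
    kernel.lift _ f (comp_unit_eq_zero U hX f) ≫ (ModSite.sectOnι O U).app G = f :=
  kernel.lift_ι _ _ _

/-- `M ↦ M/M_U` is left adjoint to the sections with support. -/
noncomputable def quotSectAdj : ModSite.quotOn O U ⊣ ModSite.sectOn O U :=
  Adjunction.mkOfHomEquiv
    { homEquiv := fun M N =>
        { toFun := fun f => kernel.lift _ ((ModSite.quotOnπ O U).app M ≫ f)
            ((Category.assoc _ _ _).trans (by
              rw [comp_unit_eq_zero U (ExtSupp.isNullOn_quotOn O U M) f, comp_zero]))
          invFun := fun g => cokernel.desc ((ModSite.extZeroAdj O U).counit.app M) (g ≫ (ModSite.sectOnι O U).app N)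
            (by rw [← Category.assoc, counit_comp_eq_zero U (isNullOn_sectOn U N) g, zero_comp])
          left_inv := fun f => by
            apply coequalizer.hom_ext
            refine (cokernel.π_desc _ _ _).trans ?_
            exact kernel.lift_ι _ _ _
          right_inv := fun g => by
            apply equalizer.hom_ext
            refine (kernel.lift_ι _ _ _).trans ?_
            exact cokernel.π_desc _ _ _ }
      homEquiv_naturality_left_symm := fun {M' M N} f g => by
        apply coequalizer.hom_ext
        refine (cokernel.π_desc _ _ _).trans ?_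
        refine Eq.trans ?_ (congrArg (· ≫ _) ((ModSite.quotOnπ O U).naturality f) |>.trans
          (Category.assoc _ _ _) |>.trans (by rfl) )
        rw [Category.assoc, Category.assoc]
        exact congrArg (f ≫ ·) (cokernel.π_desc _ _ _).symm
      homEquiv_naturality_right := fun {M N N'} f g => by
        apply equalizer.hom_ext
        refine (kernel.lift_ι _ _ _).trans ?_
        refine Eq.trans ?_ (((congrArg (_ ≫ ·) ((ModSite.sectOnι O U).naturality g)).trans
          (Category.assoc _ _ _).symm).symm.trans (Category.assoc _ _ _).symm)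
        rw [← Category.assoc]
        exact congrArg (· ≫ g) (kernel.lift_ι _ _ _).symm }

/-- Sections with support preserve injective objects. -/
theorem preservesInjectiveObjects_sectOn : (ModSite.sectOn O U).PreservesInjectiveObjects where
  injective_obj {X} hX := (quotSectAdj (O := O) U).map_injective X hX

end Adjunction

end Groth.Agent.ExtSS
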