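import Groth.Agent.CAlgH3.SupportModQcoh
import Groth.Agent.ExtSS.Null
import Groth.Agent.Coherent.QcohOps
import Groth.Prelude.Def_DCoh2
import Groth.Prelude.Def_ExtSupp
import Groth.Agent.SiteCoh.Derived

/-!
# Sections with supports on a scheme: the site and the scheme versions agree
-/

set_option autoImplicit false
set_option backward.isDefEq.respectTransparency false

universe u

open CategoryTheory CategoryTheory.Limits AlgebraicGeometry Opposite TopologicalSpace

namespace Groth.Agent.ExtSS

variable {X : Scheme.{u}} (U : X.Opens)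

theorem unit_restrict_app (N : X.Modules) (V : X.Opens) (x : Γ(N, V)) :
    ((Scheme.Modules.restrictAdjunction U.ι).unit.app N).app V x =
      N.presheaf.map (U.ι.opensFunctorAdjunction.counit.app V).op x := rfl

theorem image_preimage_le (V : X.Opens) : U.ι ''ᵁ (U.ι ⁻¹ᵁ V) ≤ U := by
  intro x hx
  obtain ⟨y, -, rfl⟩ := hx
  exact y.2

theorem image_preimage_eq {V : X.Opens} (h : V ≤ U) : U.ι ''ᵁ (U.ι ⁻¹ᵁ V) = V := by
  refine le_antisymm (leOfHom (U.ι.opensFunctorAdjunction.counit.app V)) fun x hx => ?_
  exact ⟨⟨x, h hx⟩, hx, rfl⟩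

theorem comp_unit_restrict_eq_zero {K N : X.Modules} (hK : ModSite.IsNullOn X.sheaf U K) (f : K ⟶ N) :
    f ≫ (Scheme.Modules.restrictAdjunction U.ι).unit.app N = 0 := by
  refine Scheme.Modules.hom_ext _ _ fun V => ConcreteCategory.hom_ext _ _ fun x => ?_
  show ((Scheme.Modules.restrictAdjunction U.ι).unit.app N).app V (f.app V x) = 0
  rw [unit_restrict_app]
  have h0 : K.presheaf.map (U.ι.opensFunctorAdjunction.counit.app V).op x = 0 :=
    (ExtSupp.isNullOn_iff (O := X.sheaf) U K).1 hK (homOfLE (image_preimage_le U V)) _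
  refine (ConcreteCategory.congr_hom (f.mapPresheaf.naturality (U.ι.opensFunctorAdjunction.counit.app V).op) x).symm.trans ?_
  exact (congrArg (fun y => f.app _ y) h0).trans (map_zero _)

theorem isNullOn_gammaZ (N : X.Modules) : ModSite.IsNullOn X.sheaf U ((DCoh.gammaZ U.ι).obj N) := by
  refine (ExtSupp.isNullOn_iff (O := X.sheaf) U _).2 fun V g x => ?_
  let ι := kernel.ι ((Scheme.Modules.restrictAdjunction U.ι).unit.app N)
  apply Coherent.app_injective_of_mono ι V
  have h : ((Scheme.Modules.restrictAdjunction U.ι).unit.app N).app V (ι.app V x) = 0 :=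
    congrArg (fun φ : (DCoh.gammaZ U.ι).obj N ⟶ _ => φ.app V x) (kernel.condition _)
  rw [unit_restrict_app] at h
  have hiso : IsIso (N.presheaf.map (U.ι.opensFunctorAdjunction.counit.app V).op) := by
    haveI : IsIso (U.ι.opensFunctorAdjunction.counit.app V) :=
      ⟨homOfLE (image_preimage_eq U (leOfHom g)).ge, Subsingleton.elim _ _, Subsingleton.elim _ _⟩
    infer_instance
  exact ((ConcreteCategory.isIso_iff_bijective _).1 hiso).1 (h.trans (map_zero _).symm) |>.trans (map_zero _).symm

variable [ModSite.HasPushOver X.sheaf U]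

/-- Sections with supports outside `U`, in the site and in the scheme form. -/
noncomputable def sectOnIsoGammaZ : (ModSite.sectOn X.sheaf U : X.Modules ⥤ X.Modules) ≅ DCoh.gammaZ U.ι :=
  NatIso.ofComponents (fun N =>
    { hom := kernel.lift _ ((ModSite.sectOnι X.sheaf U).app N)
        (comp_unit_restrict_eq_zero U (isNullOn_sectOn U N) _)
      inv := kernel.lift _ (kernel.ι ((Scheme.Modules.restrictAdjunction U.ι).unit.app N))
        (comp_unit_eq_zero U (isNullOn_gammaZ U N) _)
      hom_inv_id := by
        refine (cancel_mono (kernel.ι _)).1 ?_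
        exact (Category.assoc _ _ _).trans ((congrArg _ (kernel.lift_ι _ _ _)).trans
          ((kernel.lift_ι _ _ _).trans (Category.id_comp _).symm))
      inv_hom_id := by
        refine (cancel_mono (kernel.ι _)).1 ?_
        exact (Category.assoc _ _ _).trans ((congrArg _ (kernel.lift_ι _ _ _)).trans
          ((kernel.lift_ι _ _ _).trans (Category.id_comp _).symm)) })
    fun {N N'} φ => by
      refine (cancel_mono (kernel.ι _)).1 ?_
      refine (Category.assoc _ _ _).trans ((congrArg _ (kernel.lift_ι _ _ _)).trans ?_)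
      refine ((ModSite.sectOnι X.sheaf U).naturality φ).trans ?_
      refine Eq.trans ?_ ((congrArg (_ ≫ ·) (kernel.lift_ι _ _ _).symm).trans (Category.assoc _ _ _).symm)
      exact (congrArg (· ≫ φ) (kernel.lift_ι ((Scheme.Modules.restrictAdjunction U.ι).unit.app N)
        ((ModSite.sectOnι X.sheaf U).app N) (comp_unit_restrict_eq_zero U (isNullOn_sectOn U N) _)).symm).trans (Category.assoc _ _ _)

/-- Local cohomology sheaves of quasi-coherent modules in the site form are quasi-coherent. -/
theorem isQCoh_HZsh [HasInjectiveResolutions (ModSite.Mod X.sheaf)] [QuasiCompact U.ι]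
    (M : X.Modules) (hM : Coh.IsQCoh M) (q : ℕ) : Coh.IsQCoh ((ModSite.HZsh X.sheaf U q).obj M) := by
  haveI : HasInjectiveResolutions X.Modules := ‹HasInjectiveResolutions (ModSite.Mod X.sheaf)›
  haveI := hM
  haveI : (ModSite.sectOn X.sheaf U : X.Modules ⥤ X.Modules).Additive := ModSite.sectOn_additive X.sheaf U
  haveI : (DCoh.gammaZ U.ι).Additive := Functor.additive_of_iso (sectOnIsoGammaZ U)
  exact CAlgH3.SupportModQcoh.qc
    ((SiteCoh.rightDerivedCongr (sectOnIsoGammaZ U) q).app M).symm
    (CAlgH3.SupportModQcoh.isQCoh_HZshM U.ι M q)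

end Groth.Agent.ExtSS
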