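import Groth.Agent.Supp15.LCQCoh
import Groth.Agent.ExtSS.SectOnScheme

/-!
# Local cohomology sheaves of modules and of abelian sheaves
-/

set_option autoImplicit false
set_option backward.isDefEq.respectTransparency.types false
set_option linter.style.haveILetI false

universe u

open CategoryTheory CategoryTheory.Limits AlgebraicGeometry Opposite TopologicalSpace
open Groth.Agent.CAlgH3.SupportSheaf Groth.Agent.CAlgH3.SupportClosedAdj

namespace Groth.Agent.ExtSS

variable {X : Scheme.{u}} (U : X.Opens)

theorem res_unit_zero (M : X.Modules) (V : X.Opens) (s : (Coh.toAb M).obj.obj (op V))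
    (h : ((Coh.toAb M).obj.map (homOfLE (inf_le_left : V ⊓ U ≤ V)).op).hom s = 0) :
    ((Coherent.toAbFunctor X).map ((Scheme.Modules.restrictAdjunction U.ι).unit.app M)).hom.app (op V) s = 0 := by
  show ((Coh.toAb M).obj.map (U.ι.opensFunctorAdjunction.counit.app V).op).hom s = 0
  have e := (Supp15.image_preimage (Y := X) U V).le
  refine Eq.trans ?_ ((congrArg ((Coh.toAb M).obj.map (homOfLE e).op).hom h).trans (map_zero _))
  exact (Supp15.res_res (X := X.carrier) (Coh.toAb M) _ _ _).symm

theorem res_zero_of_unit (M : X.Modules) (V : X.Opens) (s : (Coh.toAb M).obj.obj (op V))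
    (h : ((Coherent.toAbFunctor X).map ((Scheme.Modules.restrictAdjunction U.ι).unit.app M)).hom.app (op V) s = 0) :
    ((Coh.toAb M).obj.map (homOfLE (inf_le_left : V ⊓ U ≤ V)).op).hom s = 0 := by
  have e := (Supp15.image_preimage (Y := X) U V).ge
  refine Eq.trans ?_ ((congrArg ((Coh.toAb M).obj.map (homOfLE e).op).hom h).trans (map_zero _))
  exact (Supp15.res_res (X := X.carrier) (Coh.toAb M) _ _ _).symm

/-- The comparison with sections with supports of abelian sheaves. -/
theorem exists_gammaComp (M : X.Modules) :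
    ∃ c : (LocCohZ.sectSuppF (X := X.carrier) U).obj (Coh.toAb M) ⟶
        (Coherent.toAbFunctor X).obj ((DCoh.gammaZ U.ι).obj M),
      c ≫ (Coherent.toAbFunctor X).map (kernel.ι ((Scheme.Modules.restrictAdjunction U.ι).unit.app M)) =
        iota (X := X.carrier) U (Coh.toAb M) ∧ IsIso c := by
  let η := (Scheme.Modules.restrictAdjunction U.ι).unit.app M
  have hm : Mono ((Coherent.toAbFunctor X).map (kernel.ι η)) :=
    (Coherent.toAb_shortExact (S := ShortComplex.mk (kernel.ι η) (cokernel.π _) (cokernel.condition _))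
      { exact := ShortComplex.exact_cokernel _ }).mono_f
  have hex : ((ShortComplex.mk (kernel.ι η) η (kernel.condition _)).map (Coherent.toAbFunctor X)).Exact :=
    (ShortComplex.exact_of_f_is_kernel _ (kernelIsKernel η)).map (Coherent.toAbFunctor X)
  haveI : Mono ((ShortComplex.mk (kernel.ι η) η (kernel.condition _)).map (Coherent.toAbFunctor X)).f := hm
  have w : iota (X := X.carrier) U (Coh.toAb M) ≫ (Coherent.toAbFunctor X).map η = 0 := by
    ext A : 3
    exact AddCommGrpCat.hom_ext (AddMonoidHom.ext fun a =>
      res_unit_zero U M A.unop _ (Supp15.iota_res_eq_zero (X := X.carrier) U (Coh.toAb M) A.unop a))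
  refine ⟨hex.lift _ w, hex.lift_f _ w, ?_⟩
  have hc : ∀ (B : X.Opens) a, ((Coherent.toAbFunctor X).map (kernel.ι η)).hom.app (op B)
      ((hex.lift _ w).hom.app (op B) a) = (iota (X := X.carrier) U (Coh.toAb M)).hom.app (op B) a :=
    fun B a => congrArg (fun m => (m.hom.app (op B)).hom a) (hex.lift_f _ w)
  haveI : ∀ B : (Opens X)ᵒᵖ, IsIso (((sheafToPresheaf (Opens.grothendieckTopology X) AddCommGrpCat.{u}).map
      (hex.lift _ w)).app B) := by
    rintro ⟨B⟩
    rw [ConcreteCategory.isIso_iff_bijective]
    constructor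
    · intro a b hab
      apply iota_injective (X := X.carrier) U (Coh.toAb M) (op B)
      rw [← hc, ← hc]
      exact congrArg _ hab
    · intro x
      obtain ⟨a, ha⟩ := Supp15.exists_iota (X := X.carrier) U (Coh.toAb M) B _
        (res_zero_of_unit U M B _ (Coherent.kernel_ι_app_zero η B x))
      refine ⟨a, Coherent.app_injective_of_mono (kernel.ι η) B ?_⟩
      exact (hc B a).trans ha
  haveI : IsIso ((sheafToPresheaf (Opens.grothendieckTopology X) AddCommGrpCat.{u}).map (hex.lift _ w)) :=
    NatIso.isIso_of_isIso_app _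
  exact isIso_of_reflects_iso (hex.lift _ w) (sheafToPresheaf (Opens.grothendieckTopology X) AddCommGrpCat.{u})

/-- Vanishing of the local cohomology sheaves of the underlying abelian sheaf gives that of the modules. -/
theorem isZero_HZshM [HasInjectiveResolutions X.Modules] (M : X.Modules) (q : ℕ)
    (h : IsZero ((LocCohZ.HZsh (X := X.carrier) U q).obj (Coh.toAb M))) :
    IsZero ((LocCohZ.HZshM U.ι q).obj M) := by
  let R := injectiveResolution M
  let A := (Coherent.toAbFunctor X).mapHomologicalComplex (ComplexShape.up ℕ)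
  let T := LocCohZ.sectSuppF (X := X.carrier) U
  let N := ((DCoh.gammaZ U.ι).mapHomologicalComplex (ComplexShape.up ℕ)).obj R.cocomplex
  choose c hc hci using fun n : ℕ => exists_gammaComp U (R.cocomplex.X n)
  let eN : (T.mapHomologicalComplex _).obj (A.obj R.cocomplex) ≅ A.obj N :=
    HomologicalComplex.Hom.isoOfComponents (fun n => @asIso _ _ _ _ (c n) (hci n))
      (fun n m _ => by
        let d := R.cocomplex.d n m
        have hm : Mono ((Coherent.toAbFunctor X).map
            (kernel.ι ((Scheme.Modules.restrictAdjunction U.ι).unit.app (R.cocomplex.X m)))) :=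
          (Coherent.toAb_shortExact (S := ShortComplex.mk (kernel.ι _) (cokernel.π _) (cokernel.condition _))
            { exact := ShortComplex.exact_cokernel _ }).mono_f
        refine hm.right_cancellation _ _ ?_
        refine (Category.assoc _ _ _).trans ((congrArg (c n ≫ ·)
          ((Functor.map_comp _ _ _).symm.trans ((congrArg _ (kernel.lift_ι _ _ _)).trans (Functor.map_comp _ _ _)))).trans ?_)
        refine (Category.assoc _ _ _).symm.trans ((congrArg (· ≫ _) (hc n)).trans ?_)
        refine Eq.trans ?_ ((congrArg (T.map ((Coherent.toAbFunctor X).map d) ≫ ·) (hc m)).symm.trans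
          (Category.assoc _ _ _).symm)
        exact ((iotaNat (X := X.carrier) U).naturality ((Coherent.toAbFunctor X).map d)).symm)
  haveI := Supp15.preservesFiniteLimits_sectSuppF (X := X.carrier) U
  have hmono : Mono ((Coherent.toAbFunctor X).map (R.ι.f 0)) :=
    (Coherent.toAb_shortExact (S := ShortComplex.mk (R.ι.f 0) (cokernel.π _) (cokernel.condition _))
      { exact := ShortComplex.exact_cokernel _ }).mono_f
  obtain ⟨e⟩ := @Supp15.nonempty_rightDerived_iso _ _ _ _ _ _ _ T _ _ (Coh.toAb M) (A.obj R.cocomplex)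
    ((Coherent.toAbFunctor X).map (R.ι.f 0)) hmono
    ((Functor.map_comp _ _ _).symm.trans ((congrArg _ R.ι_f_zero_comp_complex_d).trans (Functor.map_zero _ _ _)))
    (R.exact₀.map (Coherent.toAbFunctor X))
    (fun n => by
      rw [HomologicalComplex.exactAt_iff' _ n (n + 1) (n + 2) (by simp) (by simp)]
      exact (R.exact_succ n).map (Coherent.toAbFunctor X))
    (fun n p hp => @Supp15.isZero_rightDerived_sectSuppF X.carrier U (Coh.toAb (R.cocomplex.X n))
      (@Coherent.isFlasque_toAb_of_injective _ (R.cocomplex.X n) (R.injective n)) p hp) q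
  have h' : IsZero ((Coherent.toAbFunctor X).obj (N.homology q)) :=
    h.of_iso (((N.sc q).mapHomologyIso (Coherent.toAbFunctor X)).symm ≪≫
      (asIso (HomologicalComplex.homologyMap eN.hom q)).symm ≪≫ e.symm)
  haveI : (Coherent.toAbFunctor X).Faithful :=
    ⟨fun {M N f g} h => (Scheme.Modules.toPresheaf X).map_injective (congrArg (fun m => m.hom) h)⟩
  refine IsZero.of_iso ?_ (R.isoRightDerivedObj (DCoh.gammaZ U.ι) q)
  rw [IsZero.iff_id_eq_zero] at h' ⊢
  exact (Coherent.toAbFunctor X).map_injective
    (((Coherent.toAbFunctor X).map_id _).trans (h'.trans ((Coherent.toAbFunctor X).map_zero _ _).symm))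

end Groth.Agent.ExtSS
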