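import Groth.Prelude.Def_ModSite2
import Groth.Prelude.Def_SpSeq
import Groth.Agent.SpecSeq.HomSS
import Groth.Agent.SpecSeq.SheafSS
import Groth.Agent.SiteTen.Proj
import Groth.Agent.SiteHom16.Basic
import Groth.Agent.S6150
import Groth.Agent.S0491

/-!
# The local-to-global spectral sequence of Ext of modules on a ringed site
-/

set_option autoImplicit false
set_option backward.isDefEq.respectTransparency false

universe v u u'

open CategoryTheory CategoryTheory.Limits CategoryTheory.Abelian Opposite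

namespace Groth.Agent.ExtSS

section General

variable {A : Type u} [Category.{v} A] [Abelian A] {B : Type u'} [Category.{v} B] [Abelian B]

/-- A natural family of bijections of groups of morphisms along an additive functor is additive. -/
noncomputable def addEquivOfNatural (R : A ⥤ B) [R.Additive] {P : A} {P' : B}
    (e : ∀ F : A, (P ⟶ F) ≃ (P' ⟶ R.obj F))
    (he : ∀ {F G : A} (x : P ⟶ F) (f : F ⟶ G), e G (x ≫ f) = e F x ≫ R.map f) (F : A) :
    (P ⟶ F) ≃+ (P' ⟶ R.obj F) :=
  { e F with
    map_add' := fun x y => by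
      change e F (x + y) = e F x + e F y
      have hs : x + y = biprod.lift x y ≫ (biprod.fst + biprod.snd) := by
        rw [Preadditive.comp_add, biprod.lift_fst, biprod.lift_snd]
      rw [hs, he, R.map_add, Preadditive.comp_add, ← he, ← he, biprod.lift_fst, biprod.lift_snd] }

/-- The functor form of a natural family of bijections. -/
noncomputable def homFromFunctorIso (R : A ⥤ B) [R.Additive] {P : A} {P' : B}
    (e : ∀ F : A, (P ⟶ F) ≃ (P' ⟶ R.obj F))
    (he : ∀ {F G : A} (x : P ⟶ F) (f : F ⟶ G), e G (x ≫ f) = e F x ≫ R.map f) :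
    R ⋙ SpecSeq.homFrom P' ≅ SpecSeq.homFrom P :=
  NatIso.ofComponents (fun F => (addEquivOfNatural R e he F).symm.toAddCommGrpIso) fun {F G} f => by
    ext x
    apply (addEquivOfNatural R e he G).injective
    refine ((addEquivOfNatural R e he G).apply_symm_apply _).trans ?_
    refine Eq.trans ?_ (he ((addEquivOfNatural R e he F).symm x) f).symm
    exact congrArg (· ≫ R.map f) ((addEquivOfNatural R e he F).apply_symm_apply x).symm

/-- `Hom (P, -)` only depends on `P` up to isomorphism. -/
noncomputable def homFromCongr {P P' : A} (e : P ≅ P') : SpecSeq.homFrom P ≅ SpecSeq.homFrom P' :=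
  NatIso.ofComponents (fun F => (SiteHom16.precompIso e F).toAddCommGrpIso) fun {F G} f => by
    ext x
    change e.inv ≫ (x ≫ f) ≫ 𝟙 G = (e.inv ≫ x ≫ 𝟙 F) ≫ f
    simp

end General

variable {C : Type u} [SmallCategory C] {J : GrothendieckTopology C} {O : Sheaf J CommRingCat.{u}}

/-- The underlying abelian sheaf, as a functor. -/
noncomputable abbrev toAbF (O : Sheaf J CommRingCat.{u}) : ModSite.Mod O ⥤ Sheaf J AddCommGrpCat.{u} :=
  SheafOfModules.toSheaf.{u} (ModSite.ringSh O)

instance preservesFiniteColimits_toAbF : PreservesFiniteColimits (toAbF O) :=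
  SiteDer16.preservesFiniteColimits_toSheaf _

/-- The constant sheaf `ℤ`. -/
noncomputable abbrev constZ (J : GrothendieckTopology C) : Sheaf J AddCommGrpCat.{u} :=
  (constantSheaf J AddCommGrpCat.{u}).obj (AddCommGrpCat.of (ULift.{u} ℤ))

/-- Global sections of a module are the maps out of the structure sheaf. -/
noncomputable def globalIso : toAbF O ⋙ SpecSeq.homFrom (constZ J) ≅ SpecSeq.homFrom (ModSite.unit O) :=
  homFromFunctorIso (toAbF O) (fun F => S0491.unitEquiv J (ModSite.ringSh O) F)
    (fun x f => S0491.unitEquiv_comp J (ModSite.ringSh O) x f)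

/-- Global sections of the internal hom are the morphisms. -/
noncomputable def sheafHomUnitIso (M : ModSite.Mod O) [ModSite.HasSheafHom M] :
    ModSite.sheafHom M ⋙ SpecSeq.homFrom (ModSite.unit O) ≅ SpecSeq.homFrom M :=
  SpecSeq.homFromCompIso (ModSite.sheafHomAdj M) (ModSite.unit O) ≪≫
    homFromCongr ((SiteTen.tenUnitNatIso O).app M)

/-- Global sections of the underlying sheaf of the internal hom are the morphisms. -/
noncomputable def compIso (M : ModSite.Mod O) [ModSite.HasSheafHom M] :
    (ModSite.sheafHom M ⋙ toAbF O) ⋙ SpecSeq.homFrom (constZ J) ≅ SpecSeq.homFrom M :=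
  Functor.associator _ _ _ ≪≫ Functor.isoWhiskerLeft _ globalIso ≪≫ sheafHomUnitIso M

/-- The internal hom into an injective is acyclic for global sections. -/
theorem isZero_rightDerived_global (M Q : ModSite.Mod O) [ModSite.HasSheafHom M] [Injective Q]
    {q : ℕ} (hq : 0 < q) :
    IsZero (((SpecSeq.homFrom (constZ J)).rightDerived q).obj ((toAbF O).obj ((ModSite.sheafHom M).obj Q))) := by
  obtain ⟨k, rfl⟩ : ∃ k, q = k + 1 := ⟨q - 1, by omega⟩
  have : Subsingleton (Ext.{u} (constZ J) ((toAbF O).obj ((ModSite.sheafHom M).obj Q)) (k + 1)) :=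
    S0491.subsingleton_of_iso J (S0491.constFreeIso J) (k + 1) (S6150.result O M Q (S0491.ptSheaf J) k)
  exact IsZero.of_iso (AddCommGrpCat.isZero_of_subsingleton _) (SpecSeq.homFromDerivedIso _ _ (k + 1))

/-- The local-to-global spectral sequence. -/
theorem exists_localToGlobal (M N : ModSite.Mod O) [ModSite.HasSheafHom M]
    [HasInjectiveResolutions (ModSite.Mod O)] [HasExt.{u} (ModSite.Mod O)]
    {H : ℤ → AddCommGrpCat.{u}} {E₂ : ℤ → ℤ → AddCommGrpCat.{u}}
    (eH : ∀ n : ℕ, Nonempty (AddCommGrpCat.of (Ext.{u} M N n) ≅ H n))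
    (zH : ∀ n : ℤ, n < 0 → IsZero (H n))
    (eX : ∀ p q : ℕ,
      Nonempty (AddCommGrpCat.of (ModSite.HC O ((ModSite.extSh M q).obj N) p) ≅ E₂ p q))
    (zX : ∀ p q : ℤ, ¬ (0 ≤ p ∧ 0 ≤ q) → IsZero (E₂ p q)) :
    ∃ (E : E₂CohomologicalSpectralSequence AddCommGrpCat.{u}) (a : SpSeq.Abutment E H),
      (∀ n, a.IsFinite n) ∧ SpSeq.IsBounded E ∧
      ∀ p q : ℤ, Nonempty ((E.page 2 le_rfl).X (p, q) ≅ E₂ p q) := by
  have := SpecSeq.enoughInjectives_of_hasInjectiveResolutions (ModSite.Mod O)
  refine SpecSeq.exists_composite (ModSite.sheafHom M ⋙ toAbF O) (SpecSeq.homFrom (constZ J))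
    (fun Q _ q hq => isZero_rightDerived_global M Q hq) N
    (fun n => (eH n).map fun e => (SiteCoh.rightDerivedCongr (compIso M) n).app N ≪≫
      SpecSeq.homFromDerivedIso M N n ≪≫ e)
    zH
    (fun p q => (eX p q).map fun e => ((SpecSeq.homFrom (constZ J)).rightDerived p).mapIso
        ((SiteCoh.rightDerivedCompExactIso (ModSite.sheafHom M) (toAbF O) q).app N) ≪≫
      SpecSeq.homFromDerivedIso _ _ p ≪≫ e)
    zX

end Groth.Agent.ExtSS
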