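import Groth.Agent.ExtSS.ContraLES
import Groth.Agent.SiteCoh.TotallyAcyclic
import Groth.Agent.S6165

/-!
# Relative sheaf Ext from acyclic resolutions in the first variable
-/

set_option autoImplicit false
set_option backward.isDefEq.respectTransparency false
set_option linter.style.haveILetI false

universe u

open CategoryTheory CategoryTheory.Limits AlgebraicGeometry
open Groth.Agent.Coherent

namespace Groth.Agent.ExtSS

section Abstract

variable {A : Type*} [Category* A] [Abelian A] (C : CochainComplex A ℕ) (Z : ℕ → A)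
  (a : ∀ i, Z i ⟶ C.X i) (b : ∀ i, C.X i ⟶ Z (i + 1))
  (hab : ∀ i, b i ≫ a (i + 1) = C.d i (i + 1)) [∀ i, Mono (a i)]
  (w : ∀ i, a i ≫ b i = 0) (hex : ∀ i, (ShortComplex.mk (a i) (b i) (w i)).Exact)

include hab w hex in
theorem exact_cycles (i : ℕ) : ∃ z : a i ≫ C.d i (i + 1) = 0, (ShortComplex.mk (a i) (C.d i (i + 1)) z).Exact := by
  refine ⟨by rw [← hab, reassoc_of% (w i), zero_comp], ?_⟩
  refine (ShortComplex.exact_iff_of_epi_of_isIso_of_mono
    (S₁ := ShortComplex.mk (a i) (b i) (w i))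
    (S₂ := ShortComplex.mk (a i) (C.d i (i + 1)) (by rw [← hab, reassoc_of% (w i), zero_comp]))
    { τ₁ := 𝟙 _, τ₂ := 𝟙 _, τ₃ := a (i + 1), comm₁₂ := by simp, comm₂₃ := by simp [hab] }).1 (hex i)

include hab w hex in
theorem nonempty_homology_zero : Nonempty (C.homology 0 ≅ Z 0) := by
  obtain ⟨z, hz⟩ := exact_cycles C Z a b hab w hex 0
  exact ⟨(CochainComplex.isoHomologyπ₀ C).symm ≪≫
    IsLimit.conePointUniqueUpToIso (C.cyclesIsKernel 0 1 (by simp)) hz.fIsKernel⟩

include hab w hex in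
theorem nonempty_homology_succ (i : ℕ) {H : A} (π : Z (i + 1) ⟶ H) (z : b i ≫ π = 0) [Epi π]
    (hπ : (ShortComplex.mk (b i) π z).Exact) : Nonempty (C.homology (i + 1) ≅ H) := by
  obtain ⟨z', hz⟩ := exact_cycles C Z a b hab w hex (i + 1)
  have hk := hz.fIsKernel
  have hf : hk.lift (KernelFork.ofι (C.d i (i + 1)) (C.d_comp_d i (i + 1) (i + 1 + 1))) = b i :=
    (cancel_mono (a (i + 1))).1 ((hk.fac _ WalkingParallelPair.zero).trans (hab i).symm)
  let D : (C.sc' i (i + 1) (i + 1 + 1)).LeftHomologyData :=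
    { K := Z (i + 1)
      H := H
      i := a (i + 1)
      π := π
      wi := z'
      hi := hk
      wπ := (congrArg (fun m => m ≫ π) hf).trans z
      hπ := CokernelCofork.IsColimit.ofπ π _
        (fun g hg => (CokernelCofork.IsColimit.desc' hπ.gIsCokernel g
          ((congrArg (fun m => m ≫ g) hf).symm.trans hg)).1)
        (fun g hg => (CokernelCofork.IsColimit.desc' hπ.gIsCokernel g
          ((congrArg (fun m => m ≫ g) hf).symm.trans hg)).2)
        (fun g hg m hm => (cancel_epi π).1 (hm.trans (CokernelCofork.IsColimit.desc' hπ.gIsCokernel g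
          ((congrArg (fun m => m ≫ g) hf).symm.trans hg)).2.symm)) }
  exact ⟨ShortComplex.homologyMapIso (C.isoSc' i (i + 1) (i + 1 + 1) (by simp) (by simp)) ≪≫ D.homologyIso⟩

end Abstract

theorem toRightDerivedZero_natural {A B : Type*} [Category* A] [Abelian A] [HasInjectiveResolutions A] [Category* B]
    [Abelian B] {F F' : A ⥤ B} [F.Additive] [F'.Additive] (α : F ⟶ F') (X : A) :
    F.toRightDerivedZero.app X ≫ (NatTrans.rightDerived α 0).app X = α.app X ≫ F'.toRightDerivedZero.app X := by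
  let I := injectiveResolution X
  rw [I.toRightDerivedZero_eq F, I.toRightDerivedZero_eq F', InjectiveResolution.rightDerived_app_eq α I 0]
  have h : I.toRightDerivedZero' F ≫ HomologicalComplex.cyclesMap
      ((NatTrans.mapHomologicalComplex α (ComplexShape.up ℕ)).app I.cocomplex) 0 =
      α.app X ≫ I.toRightDerivedZero' F' := by
    rw [← cancel_mono (HomologicalComplex.iCycles _ 0), Category.assoc, Category.assoc,
      HomologicalComplex.cyclesMap_i, InjectiveResolution.toRightDerivedZero'_comp_iCycles_assoc,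
      InjectiveResolution.toRightDerivedZero'_comp_iCycles]
    exact α.naturality (I.ι.f 0)
  simp only [Category.assoc, Iso.inv_hom_id_assoc]
  rw [← reassoc_of% h]
  simp

noncomputable section

variable {X Y : Scheme.{u}} (f : X ⟶ Y)

theorem relHomMap_comp {M M' M'' : X.Modules} [ModSite.HasSheafHom (O := X.sheaf) M]
    [ModSite.HasSheafHom (O := X.sheaf) M'] [ModSite.HasSheafHom (O := X.sheaf) M'']
    (g : M' ⟶ M) (g' : M'' ⟶ M') : relHomMap f g ≫ relHomMap f g' = relHomMap f (g' ≫ g) := by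
  change Functor.whiskerRight _ _ ≫ Functor.whiskerRight _ _ = Functor.whiskerRight _ _
  rw [← Functor.whiskerRight_comp]
  refine congrArg (fun m => Functor.whiskerRight m _) ?_
  exact (conjugateEquiv_comp _ _ _ _ _).trans (congrArg _ (((ModSite.tensorBi X.sheaf).flip.map_comp g' g).symm))

theorem relHomMap_id (M : X.Modules) [ModSite.HasSheafHom (O := X.sheaf) M] :
    relHomMap f (𝟙 M) = 𝟙 _ := by
  have h : ExtSupp.sheafHomMap (O := X.sheaf) (𝟙 M) = 𝟙 _ :=
    (congrArg _ ((ModSite.tensorBi X.sheaf).flip.map_id M)).trans (conjugateEquiv_id _)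
  change Functor.whiskerRight (ExtSupp.sheafHomMap (O := X.sheaf) (𝟙 M)) _ = _
  rw [h, Functor.whiskerRight_id']

theorem relMap_comp [HasInjectiveResolutions X.Modules] (G : X.Modules) (p : ℕ) {M M' M'' : X.Modules}
    [ModSite.HasSheafHom (O := X.sheaf) M] [ModSite.HasSheafHom (O := X.sheaf) M']
    [ModSite.HasSheafHom (O := X.sheaf) M''] [(relHom f M).Additive] [(relHom f M').Additive]
    [(relHom f M'').Additive] (g' : M'' ⟶ M') (g : M' ⟶ M) (h : M'' ⟶ M) (hh : g' ≫ g = h) :
    (NatTrans.rightDerived (relHomMap f g) p).app G ≫ (NatTrans.rightDerived (relHomMap f g') p).app G =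
      (NatTrans.rightDerived (relHomMap f h) p).app G := by
  subst hh
  rw [← NatTrans.comp_app, ← NatTrans.rightDerived_comp, relHomMap_comp]

theorem relMap_comp_eq_id [HasInjectiveResolutions X.Modules] (G : X.Modules) (p : ℕ) {M M' : X.Modules}
    [ModSite.HasSheafHom (O := X.sheaf) M] [ModSite.HasSheafHom (O := X.sheaf) M']
    [(relHom f M).Additive] [(relHom f M').Additive] (g' : M ⟶ M') (g : M' ⟶ M) (hh : g' ≫ g = 𝟙 M) :
    (NatTrans.rightDerived (relHomMap f g) p).app G ≫ (NatTrans.rightDerived (relHomMap f g') p).app G = 𝟙 _ := by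
  rw [relMap_comp f G p g' g _ hh, relHomMap_id, NatTrans.rightDerived_id]
  rfl

section Rel

variable (G : X.Modules) [∀ M : X.Modules, ModSite.HasSheafHom (O := X.sheaf) M]
  [HasInjectiveResolutions X.Modules] [∀ M : X.Modules, (relHom f M).Additive]
  [∀ M : X.Modules, PreservesFiniteLimits (relHom f M)]

/-- Relative Ext as a function of the first variable. -/
abbrev relExt (p : ℕ) (M : X.Modules) : Y.Modules := ((relHom f M).rightDerived p).obj G

/-- Functoriality of relative Ext in the first variable. -/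
def relExtMap (p : ℕ) {M M' : X.Modules} (g : M' ⟶ M) : relExt f G p M ⟶ relExt f G p M' :=
  (NatTrans.rightDerived (relHomMap f g) p).app G

/-- Degree zero relative Ext. -/
def relExtZeroIso (M : X.Modules) : (relHom f M).obj G ≅ relExt f G 0 M :=
  ((relHom f M).rightDerivedZeroIsoSelf.app G).symm

theorem relExtZeroIso_natural {M M' : X.Modules} (g : M' ⟶ M) :
    (relExtZeroIso f G M).hom ≫ relExtMap f G 0 g = (relHomMap f g).app G ≫ (relExtZeroIso f G M').hom :=
  toRightDerivedZero_natural (relHomMap f g) G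

theorem relExtMap_comp (p : ℕ) {M M' M'' : X.Modules} (g' : M'' ⟶ M') (g : M' ⟶ M) :
    relExtMap f G p g ≫ relExtMap f G p g' = relExtMap f G p (g' ≫ g) :=
  relMap_comp f G p g' g _ rfl

theorem relExtMap_id (p : ℕ) (M : X.Modules) : relExtMap f G p (𝟙 M) = 𝟙 _ := by
  rw [relExtMap, relHomMap_id, NatTrans.rightDerived_id]
  rfl

/-- Isomorphisms in the first variable. -/
def relExtIso (p : ℕ) {M M' : X.Modules} (v : M ≅ M') : relExt f G p M' ≅ relExt f G p M where
  hom := relExtMap f G p v.hom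
  inv := relExtMap f G p v.inv
  hom_inv_id := by rw [relExtMap_comp, v.inv_hom_id, relExtMap_id]
  inv_hom_id := by rw [relExtMap_comp, v.hom_inv_id, relExtMap_id]

theorem relExt_les (S : ShortComplex X.Modules) (hS : S.ShortExact) :
    Mono (relExtMap f G 0 S.g) ∧
    (∀ p : ℕ, ∃ z : relExtMap f G p S.g ≫ relExtMap f G p S.f = 0,
      (ShortComplex.mk (relExtMap f G p S.g) (relExtMap f G p S.f) z).Exact) ∧
    ∃ δ : ∀ p : ℕ, relExt f G p S.X₁ ⟶ relExt f G (p + 1) S.X₃, ∀ p : ℕ,
      (∃ z : relExtMap f G p S.f ≫ δ p = 0, (ShortComplex.mk (relExtMap f G p S.f) (δ p) z).Exact) ∧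
      (∃ z : δ p ≫ relExtMap f G (p + 1) S.g = 0,
        (ShortComplex.mk (δ p) (relExtMap f G (p + 1) S.g) z).Exact) :=
  let ⟨h1, h2, δ, h3⟩ := exists_contraLES f S hS G
  ⟨h1, h2, δ, h3⟩

end Rel

/-- Relative Ext from an acyclic resolution. -/
theorem nonempty_homology_iso_relExt (F G : X.Modules) [∀ M : X.Modules, ModSite.HasSheafHom (O := X.sheaf) M]
    [HasInjectiveResolutions X.Modules] [∀ M : X.Modules, (relHom f M).Additive]
    [∀ M : X.Modules, PreservesFiniteLimits (relHom f M)]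
    (L : ChainComplex X.Modules ℕ) (π : L.X 0 ⟶ F) [Epi π] (hπ : L.d 1 0 ≫ π = 0)
    (hex0 : (ShortComplex.mk (L.d 1 0) π hπ).Exact) (hex : ∀ j : ℕ, L.ExactAt (j + 1))
    (hL : ∀ (j p : ℕ), 1 ≤ p → IsZero (relExt f G p (L.X j)))
    (C : CochainComplex Y.Modules ℕ) (e : ∀ j : ℕ, C.X j ≅ (relHom f (L.X j)).obj G)
    (hC : ∀ j : ℕ, C.d j (j + 1) ≫ (e (j + 1)).hom = (e j).hom ≫ (relHomMap f (L.d (j + 1) j)).app G)
    (i : ℕ) : Nonempty (C.homology i ≅ relExt f G i F) := by
  let N : ℕ → X.Modules := fun j => cokernel (L.d (j + 1) j)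
  let pr : ∀ j, L.X j ⟶ N j := fun j => cokernel.π (L.d (j + 1) j)
  let inc : ∀ j, N (j + 1) ⟶ L.X j := fun j =>
    cokernel.desc (L.d (j + 2) (j + 1)) (L.d (j + 1) j) (L.d_comp_d _ _ _)
  let S : ℕ → ShortComplex X.Modules := fun j => ShortComplex.mk (inc j) (pr j) (by
    rw [← cancel_epi (cokernel.π (L.d (j + 2) (j + 1))), ← Category.assoc, cokernel.π_desc,
      cokernel.condition, comp_zero])
  have hS : ∀ j, (S j).ShortExact := fun j => SiteCoh.syzygy_shortExact L j
    ((L.exactAt_iff' (j + 2) (j + 1) j (by simp) (by simp)).1 (hex j))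
  choose hmono hmid δ hδ using fun j => relExt_les f G (S j) (hS j)
  have hshift : ∀ j p, Nonempty (relExt f G (p + 1) (N (j + 1)) ≅ relExt f G (p + 2) (N j)) := fun j p => by
    obtain ⟨⟨_, h₁⟩, ⟨_, h₂⟩⟩ := hδ j (p + 1)
    haveI : Mono (δ j (p + 1)) := h₁.mono_g ((hL j (p + 1) (by omega)).eq_of_src _ _)
    haveI : Epi (δ j (p + 1)) := h₂.epi_f ((hL j (p + 2) (by omega)).eq_of_tgt _ _)
    haveI := isIso_of_mono_of_epi (δ j (p + 1))
    exact ⟨asIso (δ j (p + 1))⟩
  have hdown : ∀ j, Nonempty (relExt f G 1 (N j) ≅ relExt f G (j + 1) (N 0)) := fun j => by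
    suffices ∀ k p, Nonempty (relExt f G (p + 1) (N k) ≅ relExt f G (p + 1 + k) (N 0)) by
      obtain ⟨v⟩ := this j 0
      exact ⟨v ≪≫ eqToIso (by rw [show 0 + 1 + j = j + 1 from by omega])⟩
    intro k
    induction k with
    | zero => exact fun p => ⟨Iso.refl _⟩
    | succ k ih =>
      intro p
      obtain ⟨v⟩ := hshift k p
      obtain ⟨v'⟩ := ih (p + 1)
      exact ⟨v ≪≫ v' ≪≫ eqToIso (by rw [show p + 1 + 1 + k = p + 1 + (k + 1) from by omega])⟩
  let vF : N 0 ≅ F :=
    { hom := cokernel.desc (L.d 1 0) π hπ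
      inv := (CokernelCofork.IsColimit.desc' hex0.gIsCokernel (cokernel.π (L.d 1 0)) (cokernel.condition _)).1
      hom_inv_id := by
        rw [← cancel_epi (cokernel.π (L.d 1 0)), ← Category.assoc, cokernel.π_desc, Category.comp_id]
        exact (CokernelCofork.IsColimit.desc' hex0.gIsCokernel _ _).2
      inv_hom_id := by
        rw [← cancel_epi π, ← Category.assoc, Category.comp_id]
        exact (congrArg (fun m => m ≫ _)
          (CokernelCofork.IsColimit.desc' hex0.gIsCokernel (cokernel.π (L.d 1 0)) (cokernel.condition _)).2).trans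
          (cokernel.π_desc _ _ _) }
  let a : ∀ j, relExt f G 0 (N j) ⟶ C.X j := fun j =>
    relExtMap f G 0 (pr j) ≫ (relExtZeroIso f G (L.X j)).inv ≫ (e j).inv
  let b : ∀ j, C.X j ⟶ relExt f G 0 (N (j + 1)) := fun j =>
    (e j).hom ≫ (relExtZeroIso f G (L.X j)).hom ≫ relExtMap f G 0 (inc j)
  haveI : ∀ j, Mono (a j) := fun j => by
    haveI : Mono (relExtMap f G 0 (pr j)) := hmono j
    exact mono_comp _ _
  have hab : ∀ j, b j ≫ a (j + 1) = C.d j (j + 1) := fun j => by
    have hd : relExtMap f G 0 (inc j) ≫ relExtMap f G 0 (pr (j + 1)) = relExtMap f G 0 (L.d (j + 1) j) :=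
      (relExtMap_comp f G 0 (pr (j + 1)) (inc j)).trans (congrArg _ (cokernel.π_desc _ _ _))
    rw [← cancel_mono (e (j + 1)).hom, hC, ← cancel_mono (relExtZeroIso f G (L.X (j + 1))).hom]
    simp only [a, b, Category.assoc, Iso.inv_hom_id_assoc, Iso.inv_hom_id, Category.comp_id]
    rw [hd, relExtZeroIso_natural]
  have w : ∀ j, a j ≫ b j = 0 := fun j => by
    simp only [a, b, Category.assoc, Iso.inv_hom_id_assoc]
    exact (hmid j 0).choose
  have hex' : ∀ j, (ShortComplex.mk (a j) (b j) (w j)).Exact := fun j => by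
    refine ShortComplex.exact_of_iso ?_ (hmid j 0).choose_spec
    exact ShortComplex.isoMk (Iso.refl _) ((relExtZeroIso f G (L.X j)).symm ≪≫ (e j).symm) (Iso.refl _)
      (by simp [a, S]) (by simp [b, S])
  cases i with
  | zero =>
    obtain ⟨v⟩ := nonempty_homology_zero C _ a b hab w hex'
    exact ⟨v ≪≫ relExtIso f G 0 vF.symm⟩
  | succ i =>
    obtain ⟨⟨z, h₁⟩, ⟨_, h₂⟩⟩ := hδ i 0
    haveI : Epi (δ i 0) := h₂.epi_f ((hL i 1 le_rfl).eq_of_tgt _ _)
    have z' : b i ≫ δ i 0 = 0 := by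
      simp only [b, Category.assoc]
      rw [show relExtMap f G 0 (inc i) ≫ δ i 0 = 0 from z, comp_zero, comp_zero]
    obtain ⟨v⟩ := nonempty_homology_succ C _ a b hab w hex' i (δ i 0) z'
      (ShortComplex.exact_of_iso (S₁ := ShortComplex.mk (relExtMap f G 0 (inc i)) (δ i 0) z)
        (ShortComplex.isoMk ((relExtZeroIso f G (L.X i)).symm ≪≫ (e i).symm) (Iso.refl _)
        (Iso.refl _) (by simp [b]) (by simp)) h₁)
    obtain ⟨v'⟩ := hdown i
    exact ⟨v ≪≫ v' ≪≫ relExtIso f G (i + 1) vF.symm⟩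

end

end Groth.Agent.ExtSS
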