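import Groth.Agent.SpecSeq.Consequences
import Groth.Agent.SpecSeq.SheafSS
import Groth.Agent.Coherent.RpushLeray

/-!
# The derived functors of a composite lie in a class
-/

set_option autoImplicit false

universe v v' v'' u u' u''

open CategoryTheory CategoryTheory.Limits
open scoped ZeroObject

namespace Groth.Agent.ExtSS

variable {C : Type u} [Category.{v} C] [Abelian C] [HasInjectiveResolutions C]
  {C' : Type u'} [Category.{v'} C'] [Abelian C'] [HasInjectiveResolutions C']
  {C'' : Type u''} [Category.{v''} C''] [Abelian C'']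

/-- If all `R^pS (R^qT A)` lie in a class closed under kernels, cokernels and extensions, so does
`R^n(S ∘ T) A`, provided `T` sends injectives to `S`-acyclic objects. -/
theorem mem_rightDerived_comp {P Q : C'' → Prop} (h : SpecSeq.ClassPair P Q) (T : C ⥤ C') [T.Additive]
    (S : C' ⥤ C'') [S.Additive] [PreservesFiniteLimits S] (A : C)
    (hT : ∀ J : C, Injective J → ∀ q : ℕ, 0 < q → IsZero ((S.rightDerived q).obj (T.obj J)))
    (hE : ∀ p q : ℕ, Q ((S.rightDerived p).obj ((T.rightDerived q).obj A)))
    (n : ℕ) (hn : ∀ p q : ℕ, p + q = n → P ((S.rightDerived p).obj ((T.rightDerived q).obj A))) :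
    P (((T ⋙ S).rightDerived n).obj A) := by
  obtain ⟨E, a, hfin, -, hE'⟩ := SpecSeq.exists_composite T S hT A
    (H := fun m : ℤ => if 0 ≤ m then ((T ⋙ S).rightDerived m.toNat).obj A else 0)
    (X := fun p q : ℤ => if 0 ≤ p ∧ 0 ≤ q then
      (S.rightDerived p.toNat).obj ((T.rightDerived q.toNat).obj A) else 0)
    (fun m => ⟨eqToIso (by simp)⟩) (fun m hm => by rw [if_neg (by omega)]; exact isZero_zero _)
    (fun p q => ⟨eqToIso (by simp)⟩) (fun p q hpq => by rw [if_neg hpq]; exact isZero_zero _)
  have hH := SpecSeq.mem_of_abutment h E a (n : ℤ) (hfin _) (fun pq => ?_) fun p => ?_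
  · rw [if_pos (by omega)] at hH
    simpa using hH
  · obtain ⟨e⟩ := hE' pq.1 pq.2
    refine h.isoQ e.symm ?_
    split_ifs
    · exact hE _ _
    · exact h.le _ (h.zeroP _ (isZero_zero _))
  · obtain ⟨e⟩ := hE' p ((n : ℤ) - p)
    refine h.isoP e.symm ?_
    split_ifs with hp
    · exact hn _ _ (by omega)
    · exact h.zeroP _ (isZero_zero _)

/-- `classPair` of quasi-coherent modules with itself. -/
theorem classPair_qcoh (X : AlgebraicGeometry.Scheme.{u}) :
    SpecSeq.ClassPair (C := X.Modules) Coh.IsQCoh Coh.IsQCoh where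
  le _ h := h
  isoP e h := have := h; Coherent.isQCoh_of_iso e
  isoQ e h := have := h; Coherent.isQCoh_of_iso e
  zeroP M h := Coherent.isQCoh_of_isZero h
  kerP φ hM hN := have := hM; have := hN; Coherent.isQCoh_kernel φ
  cokerP φ hM hN := have := hM; have := hN; Coherent.isQCoh_cokernel φ
  kerQ φ hM hN := have := hM; have := hN; Coherent.isQCoh_kernel φ
  cokerQ φ hM hN := have := hM; have := hN; Coherent.isQCoh_cokernel φ
  extP _ hS h₁ h₃ := have := h₁; have := h₃; Coherent.isQCoh_X₂ hS

end Groth.Agent.ExtSS
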