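import Groth.Agent.ExtSS.RelExt
import Groth.Agent.SiteTen.Flat
import Groth.Prelude.Def_ExtSupp
import Mathlib.Algebra.Homology.Refinements

/-!
# The long exact sequence of relative sheaf Ext in the first variable
-/

set_option autoImplicit false
set_option backward.isDefEq.respectTransparency false
set_option linter.style.haveILetI false

universe u

open CategoryTheory CategoryTheory.Limits AlgebraicGeometry Opposite TopologicalSpace
open Groth.Agent.Coherent Groth.Agent.PicLib

namespace Groth.Agent.ExtSS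

section Site

variable {C : Type u} [SmallCategory C] {J : GrothendieckTopology C} {O : Sheaf J CommRingCat.{u}}
variable {M M' : ModSite.Mod O} [ModSite.HasSheafHom M] [ModSite.HasSheafHom M'] (g : M' ⟶ M)

theorem homEquiv_symm_comp_sheafHomMap {A N : ModSite.Mod O} (h : A ⟶ (ModSite.sheafHom M).obj N) :
    ((ModSite.sheafHomAdj M').homEquiv A N).symm (h ≫ (ExtSupp.sheafHomMap g).app N) =
      ((ModSite.tensorBi O).obj A).map g ≫ ((ModSite.sheafHomAdj M).homEquiv A N).symm h := by
  rw [Adjunction.homEquiv_counit, Adjunction.homEquiv_counit, Functor.map_comp, Category.assoc,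
    conjugateEquiv_counit]
  exact (((ModSite.tensorBi O).flip.map g).naturality_assoc h _)

theorem sheafHomMap_comp_app_eq_zero {M'' : ModSite.Mod O} [ModSite.HasSheafHom M''] (g' : M'' ⟶ M')
    (w : g' ≫ g = 0) [∀ A : ModSite.Mod O, ((ModSite.tensorBi O).obj A).PreservesZeroMorphisms]
    (N : ModSite.Mod O) :
    (ExtSupp.sheafHomMap g).app N ≫ (ExtSupp.sheafHomMap g').app N = 0 := by
  apply ((ModSite.sheafHomAdj M'').homEquiv _ N).symm.injective
  rw [homEquiv_symm_comp_sheafHomMap,
    show (ExtSupp.sheafHomMap g).app N = 𝟙 _ ≫ (ExtSupp.sheafHomMap g).app N from (Category.id_comp _).symm,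
    homEquiv_symm_comp_sheafHomMap, ← Category.assoc, ← Functor.map_comp, w, Functor.map_zero, zero_comp,
    Adjunction.homEquiv_counit, Functor.map_zero, zero_comp]

variable (S : ShortComplex (ModSite.Mod O)) (hS : S.ShortExact)
  [ModSite.HasSheafHom S.X₁] [ModSite.HasSheafHom S.X₂] [ModSite.HasSheafHom S.X₃]

theorem preservesZero_tensorBi (A : ModSite.Mod O) : ((ModSite.tensorBi O).obj A).PreservesZeroMorphisms := by
  haveI := SiteTen.preservesFiniteColimits_tenLeft A
  haveI : ((ModSite.tensorBi O).obj A).Additive := by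
    haveI := preservesBinaryBiproducts_of_preservesBinaryCoproducts ((ModSite.tensorBi O).obj A)
    exact Functor.additive_of_preservesBinaryBiproducts _
  infer_instance

/-- The sequence of internal homs into a module. -/
noncomputable abbrev homSeq (N : ModSite.Mod O) : ShortComplex (ModSite.Mod O) :=
  haveI := preservesZero_tensorBi (O := O)
  ShortComplex.mk ((ExtSupp.sheafHomMap S.g).app N) ((ExtSupp.sheafHomMap S.f).app N)
    (sheafHomMap_comp_app_eq_zero S.g S.f S.zero N)

include hS in
theorem shortExact_homSeq (I : ModSite.Mod O) [Injective I] : (homSeq S I).ShortExact := by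
  haveI := hS.mono_f
  haveI := hS.epi_g
  haveI := preservesZero_tensorBi (O := O)
  haveI : Mono (homSeq S I).f := by
    refine Preadditive.mono_of_cancel_zero _ fun {A} k hk => ?_
    apply ((ModSite.sheafHomAdj S.X₃).homEquiv A I).symm.injective
    haveI := SiteTen.preservesFiniteColimits_tenLeft A
    rw [← cancel_epi (((ModSite.tensorBi O).obj A).map S.g), ← homEquiv_symm_comp_sheafHomMap,
      ← homEquiv_symm_comp_sheafHomMap]
    exact congrArg _ (hk.trans zero_comp.symm)
  refine { exact := ?_, mono_f := inferInstance, epi_g := ?_ }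
  · refine ShortComplex.exact_of_f_is_kernel _ (KernelFork.IsLimit.ofι' _ _ fun {A} k hk => ?_)
    haveI := SiteTen.preservesFiniteColimits_tenLeft A
    let ψ := ((ModSite.sheafHomAdj S.X₂).homEquiv A I).symm k
    have hψ : ((ModSite.tensorBi O).obj A).map S.f ≫ ψ = 0 := by
      rw [← homEquiv_symm_comp_sheafHomMap]
      refine (congrArg _ hk).trans ?_
      rw [Adjunction.homEquiv_counit, Functor.map_zero, zero_comp]
    have hc := CokernelCofork.mapIsColimit _ hS.gIsCokernel ((ModSite.tensorBi O).obj A)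
    obtain ⟨φ, hφ⟩ := CokernelCofork.IsColimit.desc' hc ψ hψ
    refine ⟨(ModSite.sheafHomAdj S.X₃).homEquiv A I φ, ?_⟩
    apply ((ModSite.sheafHomAdj S.X₂).homEquiv A I).symm.injective
    refine (homEquiv_symm_comp_sheafHomMap S.g _).trans ?_
    rw [Equiv.symm_apply_apply]
    exact hφ
  · obtain ⟨F, p, hp, hF⟩ := SiteTen.exists_flat_cover ((ModSite.sheafHom S.X₁).obj I)
    haveI := SiteTen.mono_tenLeft_map hF S.f
    let φ := Injective.factorThru (((ModSite.sheafHomAdj S.X₁).homEquiv F I).symm p)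
      (((ModSite.tensorBi O).obj F).map S.f)
    have hb : (ModSite.sheafHomAdj S.X₂).homEquiv F I φ ≫ (homSeq S I).g = p := by
      apply ((ModSite.sheafHomAdj S.X₁).homEquiv F I).symm.injective
      refine (homEquiv_symm_comp_sheafHomMap S.f _).trans ?_
      rw [Equiv.symm_apply_apply]
      exact Injective.comp_factorThru _ _
    haveI : Epi ((ModSite.sheafHomAdj S.X₂).homEquiv F I φ ≫ (homSeq S I).g) := hb ▸ hp
    exact epi_of_epi ((ModSite.sheafHomAdj S.X₂).homEquiv F I φ) (homSeq S I).g

end Site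

variable {X Y : Scheme.{u}} (f : X ⟶ Y)

/-- Direct images keep short exact sequences with flasque kernel exact. -/
theorem shortExact_push {S : ShortComplex X.Modules} (hS : S.ShortExact)
    [TopCat.Sheaf.IsFlasque (X := X.toTopCat) (Coh.toAb S.X₁)]
    [(Scheme.Modules.pushforward f).PreservesZeroMorphisms] :
    (S.map (Scheme.Modules.pushforward f)).ShortExact := by
  haveI := preservesFiniteLimits_push f
  haveI := hS.mono_f
  have hA := hS.map_of_exact (toAbFunctor X)
  haveI : TopCat.Sheaf.IsFlasque (X := X.toTopCat) (S.map (toAbFunctor X)).X₁ :=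
    ‹TopCat.Sheaf.IsFlasque (X := X.toTopCat) (Coh.toAb S.X₁)›
  haveI : Mono (S.map (Scheme.Modules.pushforward f)).f := inferInstanceAs (Mono ((Scheme.Modules.pushforward f).map S.f))
  refine { exact := hS.exact.map_of_mono_of_preservesKernel _ hS.mono_f inferInstance, mono_f := inferInstance, epi_g := ?_ }
  refine epi_of_locally_surjective _ fun W a y hy => ?_
  obtain ⟨b, hb⟩ := (AddCommGrpCat.epi_iff_surjective _).1
    (TopCat.Sheaf.IsFlasque.epi_of_shortExact (X := X.toTopCat) (U := f ⁻¹ᵁ W) hA) a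
  exact ⟨W, le_rfl, hy, b, hb.trans (resM_self _ _ a).symm⟩

variable (S : ShortComplex X.Modules)
  [ModSite.HasSheafHom (O := X.sheaf) S.X₁] [ModSite.HasSheafHom (O := X.sheaf) S.X₂]
  [ModSite.HasSheafHom (O := X.sheaf) S.X₃]

/-- `f_* Hom(M, -)`. -/
noncomputable abbrev relHom (M : X.Modules) [ModSite.HasSheafHom (O := X.sheaf) M] : X.Modules ⥤ Y.Modules :=
  ModSite.sheafHom (O := X.sheaf) M ⋙ Scheme.Modules.pushforward f

/-- Functoriality of `f_* Hom(M, -)`. -/
noncomputable abbrev relHomMap {M M' : X.Modules} [ModSite.HasSheafHom (O := X.sheaf) M]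
    [ModSite.HasSheafHom (O := X.sheaf) M'] (g : M' ⟶ M) : relHom f M ⟶ relHom f M' :=
  Functor.whiskerRight (ExtSupp.sheafHomMap (O := X.sheaf) g) (Scheme.Modules.pushforward f)

theorem exact_transport {A : Type*} [Category* A] [Abelian A] {H₁ H₂ H₃ K₁ K₂ K₃ : A} {a : H₁ ⟶ H₂} {b : H₂ ⟶ H₃}
    {z : a ≫ b = 0} (h : (ShortComplex.mk a b z).Exact) (i₁ : K₁ ≅ H₁) (i₂ : K₂ ≅ H₂) (i₃ : K₃ ≅ H₃)
    {c : K₁ ⟶ K₂} {d : K₂ ⟶ K₃} (hc : c = i₁.hom ≫ a ≫ i₂.inv) (hd : d = i₂.hom ≫ b ≫ i₃.inv) :
    ∃ w : c ≫ d = 0, (ShortComplex.mk c d w).Exact := by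
  have w : c ≫ d = 0 := by simp [hc, hd, reassoc_of% z]
  exact ⟨w, ShortComplex.exact_of_iso
    (ShortComplex.isoMk i₁.symm i₂.symm i₃.symm (by simp [hc]) (by simp [hd]) :
      ShortComplex.mk a b z ≅ ShortComplex.mk c d w) h⟩

/-- The long exact sequence. -/
theorem exists_contraLES (hS : S.ShortExact) (G : X.Modules) [HasInjectiveResolutions X.Modules]
    [(relHom f S.X₁).Additive] [(relHom f S.X₂).Additive] [(relHom f S.X₃).Additive] :
    Mono ((NatTrans.rightDerived (relHomMap f S.g) 0).app G) ∧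
    (∀ p : ℕ, ∃ w : (NatTrans.rightDerived (relHomMap f S.g) p).app G ≫
        (NatTrans.rightDerived (relHomMap f S.f) p).app G = 0, (ShortComplex.mk _ _ w).Exact) ∧
    ∃ δ : ∀ p : ℕ, ((relHom f S.X₁).rightDerived p).obj G ⟶ ((relHom f S.X₃).rightDerived (p + 1)).obj G,
      ∀ p : ℕ,
        (∃ w : (NatTrans.rightDerived (relHomMap f S.f) p).app G ≫ δ p = 0, (ShortComplex.mk _ _ w).Exact) ∧
        (∃ w : δ p ≫ (NatTrans.rightDerived (relHomMap f S.g) (p + 1)).app G = 0, (ShortComplex.mk _ _ w).Exact) := by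
  let I := injectiveResolution G
  haveI : (Scheme.Modules.pushforward f).Additive :=
    haveI := preservesFiniteLimits_push f
    Functor.additive_of_preserves_binary_products _
  have hdeg : ∀ i, ∃ w : (relHomMap f S.g).app (I.cocomplex.X i) ≫ (relHomMap f S.f).app (I.cocomplex.X i) = 0,
      (ShortComplex.mk _ _ w).ShortExact := fun i => by
    haveI := I.injective i
    haveI : TopCat.Sheaf.IsFlasque (X := X.toTopCat)
        (Coh.toAb (homSeq (O := X.sheaf) S (I.cocomplex.X i)).X₁) :=
      isFlasque_sheafHom S.X₃ (I.cocomplex.X i)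
    have h := shortExact_push f (S := homSeq (O := X.sheaf) S (I.cocomplex.X i))
      (shortExact_homSeq (O := X.sheaf) S hS (I.cocomplex.X i))
    exact ⟨((homSeq (O := X.sheaf) S (I.cocomplex.X i)).map (Scheme.Modules.pushforward f)).zero, h⟩
  choose w hw using hdeg
  let T : ShortComplex (CochainComplex Y.Modules ℕ) :=
    ShortComplex.mk ((NatTrans.mapHomologicalComplex (relHomMap f S.g) (ComplexShape.up ℕ)).app I.cocomplex)
      ((NatTrans.mapHomologicalComplex (relHomMap f S.f) (ComplexShape.up ℕ)).app I.cocomplex)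
      (HomologicalComplex.hom_ext _ _ fun i => w i)
  have hT : T.ShortExact := HomologicalComplex.shortExact_of_degreewise_shortExact _ fun i => hw i
  have eg : ∀ p, (NatTrans.rightDerived (relHomMap f S.g) p).app G =
      (I.isoRightDerivedObj (relHom f S.X₃) p).hom ≫ HomologicalComplex.homologyMap T.f p ≫
        (I.isoRightDerivedObj (relHom f S.X₂) p).inv :=
    fun p => InjectiveResolution.rightDerived_app_eq _ I p
  have ef : ∀ p, (NatTrans.rightDerived (relHomMap f S.f) p).app G =
      (I.isoRightDerivedObj (relHom f S.X₂) p).hom ≫ HomologicalComplex.homologyMap T.g p ≫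
        (I.isoRightDerivedObj (relHom f S.X₁) p).inv :=
    fun p => InjectiveResolution.rightDerived_app_eq _ I p
  refine ⟨?_, fun p => exact_transport (hT.homology_exact₂ p) _ _ _ (eg p) (ef p),
    fun p => (I.isoRightDerivedObj (relHom f S.X₁) p).hom ≫ hT.δ p (p + 1) rfl ≫
      (I.isoRightDerivedObj (relHom f S.X₃) (p + 1)).inv,
    fun p => ⟨exact_transport (hT.homology_exact₃ p (p + 1) rfl) _ _ _ (ef p) rfl,
      exact_transport (hT.homology_exact₁ p (p + 1) rfl) _ _ _ rfl (eg (p + 1))⟩⟩
  haveI : Mono (HomologicalComplex.homologyMap T.f 0) := by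
    haveI : Mono (T.f.f 0) := (hw 0).mono_f
    rw [HomologicalComplex.mono_homologyMap_iff_up_to_refinements _ 0 0 1 (by simp) (by simp)]
    intro A x hx y hy
    refine ⟨A, 𝟙 A, inferInstance, 0, ?_⟩
    have : y ≫ T.X₂.d 0 0 = 0 := by simp
    rw [← cancel_mono (T.f.f 0)]
    simpa using hy.trans this
  rw [eg 0]
  infer_instance

end Groth.Agent.ExtSS
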