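import Groth.Agent.CAlgH3.CMRing
import Groth.Agent.CycLib28.StalkGen
import Mathlib.AlgebraicGeometry.Noetherian

/-!
# Splitting a closed set avoiding a dimension, regular case
-/

set_option autoImplicit false
set_option linter.style.haveILetI false

universe u

open AlgebraicGeometry TopologicalSpace IsLocalRing CategoryTheory

namespace Groth.Agent.ExtSS

/-- In a regular local ring the primes above a given prime take all intermediate heights. -/
theorem exists_prime_height {A : Type u} [CommRing A] [IsRegularLocalRing A] (P : PrimeSpectrum A) (n : ℕ)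
    (h₁ : (P.asIdeal.height : WithBot ℕ∞) ≤ n) (h₂ : (n : WithBot ℕ∞) ≤ ringKrullDim A) :
    ∃ Q : PrimeSpectrum A, P ≤ Q ∧ Q.asIdeal.height = n := by
  haveI := CAlgH3.isCohenMacaulayLocalRing_of_regular A
  obtain ⟨d, hd⟩ : ∃ d : ℕ, ringKrullDim A = (d : WithBot ℕ∞) :=
    ⟨_, IsRegularLocalRing.spanFinrank_maximalIdeal.symm⟩
  obtain ⟨c, hc⟩ : ∃ c : ℕ, P.asIdeal.height = c := by
    have h1 : (P.asIdeal.height : ℕ∞) ≤ (n : ℕ∞) := WithBot.coe_le_coe.1 h₁
    exact ⟨P.asIdeal.height.toNat, (ENat.natCast_toNat (ne_top_of_le_ne_top (ENat.natCast_ne_top n) h1)).symm⟩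
  rw [hc] at h₁
  rw [hd] at h₂
  have hcn : c ≤ n := by exact_mod_cast h₁
  have hnd : n ≤ d := by exact_mod_cast h₂
  have hadd := CAlgH3.height_add_ringKrullDim_quotient P.asIdeal
  rw [hc, hd] at hadd
  haveI : Nontrivial (A ⧸ P.asIdeal) := Ideal.Quotient.nontrivial_iff.2 P.2.ne_top
  have hlen : ((d - c : ℕ) : WithBot ℕ∞) ≤ ringKrullDim (A ⧸ P.asIdeal) := by
    cases he : ringKrullDim (A ⧸ P.asIdeal) with
    | bot =>
      rw [he] at hadd
      exact absurd hadd (by simp)
    | coe e =>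
      rw [he] at hadd
      have h3 : (c : ℕ∞) + e = (d : ℕ∞) := WithBot.coe_injective hadd
      cases e with
      | top => simp at h3
      | coe e =>
        have h4 : c + e = d := by exact_mod_cast h3
        exact WithBot.coe_le_coe.2 (ENat.natCast_le_natCast.2 (show d - c ≤ e by omega))
  obtain ⟨l, hl⟩ := Order.le_krullDim_iff.1 hlen
  let f : PrimeSpectrum (A ⧸ P.asIdeal) → PrimeSpectrum A := PrimeSpectrum.comap (Ideal.Quotient.mk P.asIdeal)
  have hf : StrictMono f := fun a b hab => by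
    refine lt_of_le_not_ge (Ideal.comap_mono hab.le) fun hba => hab.not_ge ?_
    exact ((Ideal.comap_le_comap_iff_of_surjective _ Ideal.Quotient.mk_surjective) _ _).1 hba
  have hP : ∀ a, P ≤ f a := fun a x hx => by
    show Ideal.Quotient.mk P.asIdeal x ∈ a.asIdeal
    rw [Ideal.Quotient.eq_zero_iff_mem.2 hx]
    exact zero_mem _
  let s : LTSeries (PrimeSpectrum A) := l.map f hf
  have hs : s.length = d - c := hl
  have low : ∀ i : ℕ, ∀ hi : i < s.length + 1, ((c + i : ℕ) : ℕ∞) ≤ Order.height (s ⟨i, hi⟩) := by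
    intro i
    induction i with
    | zero =>
      intro hi
      rw [Nat.add_zero, ← hc, PrimeSpectrum.height_eq_orderHeight]
      exact Order.height_mono (hP _)
    | succ i ih =>
      intro hi
      refine le_trans ?_ (Order.height_add_one_le (s.strictMono (show (⟨i, by omega⟩ : Fin (s.length + 1)) < ⟨i + 1, hi⟩ from
        Fin.mk_lt_mk.2 (Nat.lt_succ_self i))))
      rw [← Nat.add_assoc, Nat.cast_add, Nat.cast_one]
      exact add_le_add (ih (by omega)) le_rfl
  have high : ∀ j k : ℕ, ∀ hk : k < s.length + 1, k + j = s.length →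
      Order.height (s ⟨k, hk⟩) + (j : ℕ∞) ≤ (d : ℕ∞) := by
    intro j
    induction j with
    | zero =>
      intro k hk _
      rw [Nat.cast_zero, add_zero]
      exact WithBot.coe_le_coe.1 ((Order.height_le_krullDim _).trans (le_of_eq hd))
    | succ j ih =>
      intro k hk hkj
      refine le_trans ?_ (ih (k + 1) (by omega) (by omega))
      have h6 := Order.height_add_one_le (s.strictMono (show (⟨k, hk⟩ : Fin (s.length + 1)) <
        ⟨k + 1, by omega⟩ from Fin.mk_lt_mk.2 (Nat.lt_succ_self k)))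
      rw [Nat.cast_add, Nat.cast_one, add_comm (j : ℕ∞) 1, ← add_assoc]
      exact add_le_add h6 le_rfl
  obtain ⟨k, rfl⟩ : ∃ k, n = c + k := ⟨n - c, by omega⟩
  obtain ⟨j, hj⟩ : ∃ j, k + j = s.length := ⟨s.length - k, by omega⟩
  refine ⟨s ⟨k, by omega⟩, hP _, ?_⟩
  rw [PrimeSpectrum.height_eq_orderHeight]
  refine le_antisymm ?_ (low k (by omega))
  have h7 := high j k (by omega) hj
  rw [show (d : ℕ∞) = ((c + k : ℕ) : ℕ∞) + (j : ℕ∞) by rw [← Nat.cast_add]; congr 1; omega] at h7
  exact (ENat.add_le_add_iff_right (ENat.natCast_ne_top _)).1 h7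

variable {X : Scheme.{u}}

/-- A closed set avoiding dimension `n` has no specialisation from below `n` to above `n`. -/
theorem dim_lt_of_specializes (hreg : ∀ x : X, IsRegularLocalRing (X.presheaf.stalk x)) {Z : Set X} (hZ : IsClosed Z)
    (n : ℕ) (hn : ∀ x ∈ Z, ringKrullDim (X.presheaf.stalk x) ≠ (n : WithBot ℕ∞)) {y x : X} (hy : y ∈ Z) (hyx : y ⤳ x)
    (h : ringKrullDim (X.presheaf.stalk y) < (n : WithBot ℕ∞)) :
    ringKrullDim (X.presheaf.stalk x) < (n : WithBot ℕ∞) := by
  haveI := hreg x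
  by_contra hc
  obtain ⟨P, rfl⟩ : y ∈ Set.range (X.fromSpecStalk x) := by
    rw [Scheme.range_fromSpecStalk]; exact hyx
  rw [CycLib28.ringKrullDim_stalk_eq_height] at h
  obtain ⟨Q, hPQ, hQ⟩ := exists_prime_height (A := X.presheaf.stalk x) P n h.le (not_lt.1 hc)
  refine hn (X.fromSpecStalk x Q) ?_ ?_
  · exact hZ.stableUnderSpecialization
      (((PrimeSpectrum.le_iff_specializes P Q).1 hPQ).map (X.fromSpecStalk x).continuous) hy
  · rw [CycLib28.ringKrullDim_stalk_eq_height, hQ]
    rfl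

/-- A subset of a closed set stable under specialisation and generisation in it is closed. -/
theorem isClosed_of_stable [IsLocallyNoetherian X] {Z P : Set X} (hZ : IsClosed Z) (hPZ : P ⊆ Z)
    (hspec : ∀ a b : X, a ∈ P → a ⤳ b → b ∈ P) (hgen : ∀ a b : X, a ∈ Z → b ∈ P → a ⤳ b → a ∈ P) : IsClosed P := by
  refine isClosed_of_closure_subset fun x hx => ?_
  obtain ⟨V, hV, hxV, -⟩ := exists_isAffineOpen_mem_and_subset (x := x) (U := ⊤) (Set.mem_univ _)
  haveI : IsNoetherianRing Γ(X, V) := IsLocallyNoetherian.component_noetherian ⟨V, hV⟩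
  haveI : NoetherianSpace (V : Set X) := noetherianSpace_of_isAffineOpen V hV
  let Q : Set (V : Set X) := Subtype.val ⁻¹' P
  obtain ⟨S, hSfin, hScl, hSirr, hS⟩ := NoetherianSpace.exists_finite_set_isClosed_irreducible (isClosed_closure (s := Q))
  let S' : Set (Set (V : Set X)) := {C ∈ S | (C ∩ Q).Nonempty}
  have hS'cl : IsClosed (⋃₀ S') := by rw [Set.sUnion_eq_biUnion]; exact (hSfin.subset (show S' ⊆ S from fun C hC => hC.1)).isClosed_biUnion fun C hC => hScl C hC.1
  have hsub : Q ⊆ ⋃₀ S' := fun z hz => by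
    have hzT : z ∈ ⋃₀ S := hS ▸ subset_closure hz
    obtain ⟨C, hC, hzC⟩ := hzT
    exact ⟨C, ⟨hC, z, hzC, hz⟩, hzC⟩
  have hxT : (⟨x, hxV⟩ : (V : Set X)) ∈ closure Q := by
    rw [show closure Q = Subtype.val ⁻¹' closure P from
      (V.isOpen.isOpenEmbedding_subtypeVal.isOpenMap.preimage_closure_eq_closure_preimage continuous_subtype_val P).symm]
    exact hx
  obtain ⟨C, ⟨hCS, w, hwC, hwP⟩, hxC⟩ := closure_minimal hsub hS'cl hxT
  haveI : QuasiSober (V : Set X) := V.isOpen.isOpenEmbedding_subtypeVal.quasiSober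
  obtain ⟨g, hg⟩ := QuasiSober.sober (hSirr C hCS) (hScl C hCS)
  have hgx : (g : X) ⤳ x := (hg.specializes hxC).map continuous_subtype_val
  have hgw : (g : X) ⤳ (w : X) := (hg.specializes hwC).map continuous_subtype_val
  have hgT : g ∈ closure Q := hS.symm ▸ ⟨C, hCS, hg.mem⟩
  have hgZ : (g : X) ∈ Z :=
    closure_minimal (s := Q) (t := Subtype.val ⁻¹' Z) (fun z hz => hPZ hz)
      (hZ.preimage continuous_subtype_val) hgT
  exact hspec g x (hgen g w hgZ hwP hgw) hgx

end Groth.Agent.ExtSS
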