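import Groth.Agent.ExtAff22.Sections
import Groth.Agent.SerreDual.ExtShRestrict
import Groth.Agent.Coherent.QcohLocal

/-!
# Sheaf `Ext` of a coherent module into a quasi-coherent one is quasi-coherent
-/

set_option autoImplicit false
set_option linter.style.haveILetI false

universe u

open CategoryTheory CategoryTheory.Limits AlgebraicGeometry Opposite

namespace Groth.Agent.ExtSS

theorem isQCoh_homology_homCx {X : Scheme.{u}} [IsLocallyNoetherian X] {F G : X.Modules} (hF : Coh.IsCoh F)
    (hG : Coh.IsQCoh G) (I : InjectiveResolution G) (i : ℕ) :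
    Coh.IsQCoh ((SerreDual.homCx F I).homology i) := by
  refine Coherent.isQCoh_of_openImmersion_cover _ (fun V : X.affineOpens => V.1.ι) (fun x => ?_) fun V => ?_
  · obtain ⟨W, hW, hxW, -⟩ :=
      TopologicalSpace.Opens.isBasis_iff_nbhd.mp X.isBasis_affineOpens (TopologicalSpace.Opens.mem_top x)
    exact ⟨⟨W, hW⟩, by simpa using hxW⟩
  haveI : IsAffine (V.1 : Scheme.{u}) := V.2
  haveI := hG
  haveI := Coherent.hasInjectiveResolutions_modules (V.1 : Scheme.{u})
  haveI : Coh.IsQCoh (G.restrict V.1.ι) := inferInstance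
  obtain ⟨w⟩ := SerreDual.nonempty_homology_restrict V.1.ι (F := F) I (injectiveResolution (G.restrict V.1.ι)) i
  haveI := (ExtAff22.qcoh_and_sections (RingHom.id Γ((V.1 : Scheme.{u}), ⊤)) (injectiveResolution (G.restrict V.1.ι))
    Function.bijective_id (isAffineOpen_top (V.1 : Scheme.{u})) i
    (AmpleLib.isCoh_restrict V.1.ι F hF)).1
  exact Coherent.isQCoh_of_iso w.symm

end Groth.Agent.ExtSS
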