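import Groth.Agent.ExtSS.SheafHomSupp
import Groth.Agent.ExtSS.Global

/-!
# Internal homs into sections with support, and Ext with supports
-/

set_option autoImplicit false
set_option backward.isDefEq.respectTransparency false

universe u

open CategoryTheory CategoryTheory.Limits CategoryTheory.Abelian Opposite

namespace Groth.Agent.ExtSS

variable {C : Type u} [SmallCategory C] {J : GrothendieckTopology C} {O : Sheaf J CommRingCat.{u}}
  (U : C)

/-- The tensor product with a null module is null. -/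
theorem isNullOn_tensor {X : ModSite.Mod O} (hX : ModSite.IsNullOn O U X) (M : ModSite.Mod O) :
    ModSite.IsNullOn O U (((ModSite.tensorBi O).obj X).obj M) := by
  refine IsZero.of_iso ?_ ((SiteTen.restrTenIso O U X).app M)
  have : ModSite.HasSheafHom ((ModSite.restr O U).obj M) := S6165.result (O.over U) _
  have : ((ModSite.tensorBi (O.over U)).flip.obj ((ModSite.restr O U).obj M)).Additive :=
    (ModSite.sheafHomAdj _).left_adjoint_additive
  exact Functor.map_isZero ((ModSite.tensorBi (O.over U)).flip.obj ((ModSite.restr O U).obj M)) hX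

variable [ModSite.HasPushOver O U] (M : ModSite.Mod O) [ModSite.HasSheafHom M]

/-- The comparison `ℋom(M, Γ_Z -) ⟶ Γ_Z ℋom(M, -)`. -/
noncomputable def sectHom :
    ModSite.sectOn O U ⋙ ModSite.sheafHom M ⟶ ModSite.sheafHom M ⋙ ModSite.sectOn O U where
  app N := kernel.lift _ ((ModSite.sheafHom M).map ((ModSite.sectOnι O U).app N)) (comp_unit_eq_zero U (by
    haveI : ModSite.HasSheafHom ((ModSite.restr O U).obj M) := S6165.result (O.over U) _
    refine IsZero.of_iso ?_ ((SiteHom16.restrSheafHomIso U M).app _)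
    exact Functor.map_isZero (ModSite.sheafHom ((ModSite.restr O U).obj M)) (isNullOn_sectOn U N)) _)
  naturality N N' f := by
    apply equalizer.hom_ext
    refine (Category.assoc _ _ _).trans ?_
    refine (congrArg (_ ≫ ·) (kernel.lift_ι _ _ _)).trans ?_
    refine Eq.trans ?_ (Category.assoc _ _ _).symm
    refine Eq.trans ?_ (congrArg (_ ≫ ·) ((ModSite.sectOnι O U).naturality _)).symm
    refine Eq.trans ?_ ((congrArg (· ≫ _) (kernel.lift_ι _ _ _).symm).trans (Category.assoc _ _ _))
    exact (((ModSite.sheafHom M).map_comp _ _).symm.trans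
      (congrArg _ ((ModSite.sectOnι O U).naturality f))).trans ((ModSite.sheafHom M).map_comp _ _)

theorem isIso_sectHom_app (N : ModSite.Mod O) : IsIso ((sectHom U M).app N) := by
  let ι : (ModSite.sectOn O U).obj N ⟶ N := (ModSite.sectOnι O U).app N
  have hι : (sectHom U M).app N ≫ (ModSite.sectOnι O U).app ((ModSite.sheafHom M).obj N) =
      (ModSite.sheafHom M).map ι := kernel.lift_ι _ _ _
  have : Mono ι := inferInstanceAs (Mono (kernel.ι _))
  have : (ModSite.sheafHom M).IsRightAdjoint := (ModSite.sheafHomAdj M).isRightAdjoint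
  have hm : Mono ((ModSite.sheafHom M).map ι) := (ModSite.sheafHom M).map_mono ι
  have : Mono ((sectHom U M).app N) := mono_of_mono_fac hι
  let X := (ModSite.sectOn O U).obj ((ModSite.sheafHom M).obj N)
  let g : X ⟶ (ModSite.sheafHom M).obj N := (ModSite.sectOnι O U).app _
  have hX : ModSite.IsNullOn O U (((ModSite.tensorBi O).obj X).obj M) :=
    isNullOn_tensor U (isNullOn_sectOn U _) M
  let g' := ((ModSite.sheafHomAdj M).homEquiv X N).symm g
  let k : X ⟶ (ModSite.sheafHom M).obj ((ModSite.sectOn O U).obj N) :=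
    (ModSite.sheafHomAdj M).homEquiv X _ (kernel.lift _ g' (comp_unit_eq_zero U hX g'))
  have hk : k ≫ (ModSite.sheafHom M).map ι = g := by
    refine ((ModSite.sheafHomAdj M).homEquiv_naturality_right _ _).symm.trans ?_
    refine (congrArg ((ModSite.sheafHomAdj M).homEquiv X N) (kernel.lift_ι _ _ _)).trans ?_
    exact Equiv.apply_symm_apply _ g
  have : Mono g := inferInstanceAs (Mono (kernel.ι _))
  have : IsSplitEpi ((sectHom U M).app N) := ⟨⟨⟨k, by
    rw [← cancel_mono g]
    exact (Category.assoc _ _ _).trans ((congrArg (k ≫ ·) hι).trans (hk.trans (Category.id_comp g).symm))⟩⟩⟩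
  exact isIso_of_mono_of_isSplitEpi _

/-- `Γ_Z ℋom(M, -) ≅ ℋom(M, Γ_Z -)`. -/
noncomputable def sectHomIso :
    ModSite.sheafHom M ⋙ ModSite.sectOn O U ≅ ModSite.sectOn O U ⋙ ModSite.sheafHom M :=
  haveI := fun N => isIso_sectHom_app U M N
  haveI : IsIso (sectHom U M) := NatIso.isIso_of_isIso_app _
  (asIso (sectHom U M)).symm

variable [ModSite.HasSheafHom ((ModSite.quotOn O U).obj M)]

/-- `Γ(Γ_Z ℋom(M, -)) ≅ Hom(M/M_U, -)`. -/
noncomputable def gammaZHomIso :
    ExtSupp.gammaZHom U M ≅ SpecSeq.homFrom ((ModSite.quotOn O U).obj M) :=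
  (Functor.associator _ _ _).symm ≪≫ Functor.isoWhiskerRight (suppHomIso U M).symm _ ≪≫
    Functor.isoWhiskerLeft _ (NatIso.ofComponents (fun _ => Iso.refl _) (fun _ => rfl) :
      preadditiveCoyoneda.obj (op (ModSite.unit O)) ≅ SpecSeq.homFrom (ModSite.unit O)) ≪≫
    sheafHomUnitIso _

omit [ModSite.HasPushOver O U] in
/-- `R^q Hom(P, -) ≅ Ext^q(P, -)`, naturally. -/
theorem nonempty_homFromDerived_natIso [HasInjectiveResolutions (ModSite.Mod O)]
    [HasExt.{u} (ModSite.Mod O)] (P : ModSite.Mod O) (n : ℕ) :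
    Nonempty ((SpecSeq.homFrom P).rightDerived n ≅ Abelian.extFunctorObj P n) := by
  have := SpecSeq.enoughInjectives_of_hasInjectiveResolutions (ModSite.Mod O)
  exact ⟨SiteCoh.rightDerivedCompExactIso (SiteCoh.homGroups (Functor.fromPUnit.{0} P))
      ((evaluation _ AddCommGrpCat.{u}).obj (op ⟨PUnit.unit⟩)) n ≪≫
    Functor.isoWhiskerRight (SiteCoh.rightDerivedHomGroupsIso (Functor.fromPUnit.{0} P) n) _ ≪≫
    NatIso.ofComponents (fun _ => Iso.refl _) (fun _ => rfl)⟩

end Groth.Agent.ExtSS
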