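import Groth.Agent.ExtSS.Null
import Groth.Agent.S6165
import Groth.Agent.SiteTen.Proj

/-!
# Internal homs and supports
-/

set_option autoImplicit false
set_option backward.isDefEq.respectTransparency false

universe u

open CategoryTheory CategoryTheory.Limits Opposite

namespace Groth.Agent.ExtSS

variable {C : Type u} [SmallCategory C] {J : GrothendieckTopology C} {O : Sheaf J CommRingCat.{u}}

instance additive_tensorBi (X : ModSite.Mod O) : ((ModSite.tensorBi O).obj X).Additive := by
  haveI : ModSite.HasSheafHom X := S6165.result O X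
  haveI : ((ModSite.tensorBi O).flip.obj X).Additive := (ModSite.sheafHomAdj X).left_adjoint_additive
  exact Functor.additive_of_iso (SiteTen.tenFlipIso X)

theorem preservesColimits_tensorBi (X : ModSite.Mod O) :
    PreservesColimitsOfSize.{0, 0} ((ModSite.tensorBi O).obj X) := by
  haveI : ModSite.HasSheafHom X := S6165.result O X
  haveI : PreservesColimitsOfSize.{0, 0} ((ModSite.tensorBi O).flip.obj X) :=
    (ModSite.sheafHomAdj X).leftAdjoint_preservesColimits
  exact preservesColimits_of_natIso (SiteTen.tenFlipIso X)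

/-- Tensoring with a zero module gives zero. -/
theorem isZero_flip_obj_of_isZero {X : ModSite.Mod O} (hX : IsZero X) (Y : ModSite.Mod O) :
    IsZero (((ModSite.tensorBi O).flip.obj X).obj Y) :=
  Functor.map_isZero ((ModSite.tensorBi O).obj Y) hX

/-- The internal hom out of a zero module is zero. -/
theorem isZero_sheafHom_of_isZero {X : ModSite.Mod O} [ModSite.HasSheafHom X] (hX : IsZero X)
    (Y : ModSite.Mod O) : IsZero ((ModSite.sheafHom X).obj Y) := by
  rw [IsZero.iff_id_eq_zero]
  apply ((ModSite.sheafHomAdj X).homEquiv _ _).symm.injective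
  exact (isZero_flip_obj_of_isZero hX _).eq_of_src _ _

variable (U : C)

/-- The projection `M ⟶ M/M_U`. -/
noncomputable abbrev qπ (M : ModSite.Mod O) : M ⟶ (ModSite.quotOn O U).obj M := (ModSite.quotOnπ O U).app M

/-- The internal hom out of a null module is null. -/
theorem isNullOn_sheafHom {X : ModSite.Mod O} [ModSite.HasSheafHom X] (hX : ModSite.IsNullOn O U X)
    (Y : ModSite.Mod O) : ModSite.IsNullOn O U ((ModSite.sheafHom X).obj Y) := by
  haveI : ModSite.HasSheafHom ((ModSite.restr O U).obj X) := S6165.result (O.over U) _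
  exact (isZero_sheafHom_of_isZero hX ((ModSite.restr O U).obj Y)).of_iso
    ((SiteHom16.restrSheafHomIso U X).app Y)

/-- A null module does not see what is supported on `U`. -/
theorem isIso_tensor_quotOnπ {X : ModSite.Mod O} (hX : ModSite.IsNullOn O U X) (M : ModSite.Mod O) :
    IsIso (((ModSite.tensorBi O).obj X).map (qπ U M)) := by
  haveI : ModSite.HasSheafHom X := S6165.result O X
  haveI : ModSite.HasPushOver O U := DerCompLib.hasPushOver O U
  haveI := preservesColimits_tensorBi X
  let T := (ModSite.tensorBi O).obj X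
  let j := (ModSite.extZero O U).obj ((ModSite.restr O U).obj M)
  have hz : IsZero (T.obj j) := by
    refine IsZero.of_iso ?_ ((SiteTen.tenFlipIso X).app j).symm
    rw [IsZero.iff_id_eq_zero]
    apply ((ModSite.sheafHomAdj X).homEquiv _ _).injective
    apply ((ModSite.extZeroAdj O U).homEquiv _ _).injective
    exact (isNullOn_sheafHom U hX _).eq_of_tgt _ _
  have hc := CokernelCofork.mapIsColimit _ (cokernelIsCokernel ((ModSite.extZeroAdj O U).counit.app M)) T
  exact CokernelCofork.IsColimit.isIso_π _ hc (hz.eq_of_src _ _)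

variable [ModSite.HasPushOver O U] (M : ModSite.Mod O) [ModSite.HasSheafHom M]
  [ModSite.HasSheafHom ((ModSite.quotOn O U).obj M)]

/-- The comparison `ℋom(M/M_U, -) ⟶ Γ_Z ℋom(M, -)`. -/
noncomputable def suppHom :
    ModSite.sheafHom ((ModSite.quotOn O U).obj M) ⟶ ModSite.sheafHom M ⋙ ModSite.sectOn O U where
  app N := kernel.lift _ ((ExtSupp.sheafHomMap (qπ U M)).app N)
    (comp_unit_eq_zero U (isNullOn_sheafHom U (ExtSupp.isNullOn_quotOn O U M) N) _)
  naturality N N' f := by
    apply equalizer.hom_ext
    refine (Category.assoc _ _ _).trans ?_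
    refine (congrArg (_ ≫ ·) (kernel.lift_ι _ _ _)).trans ?_
    refine ((ExtSupp.sheafHomMap (qπ U M)).naturality f).trans ?_
    refine Eq.trans ?_ (Category.assoc _ _ _).symm
    refine Eq.trans ?_ (congrArg (_ ≫ ·) ((ModSite.sectOnι O U).naturality _)).symm
    exact (congrArg (· ≫ _) (kernel.lift_ι _ _ _).symm).trans (Category.assoc _ _ _)

omit [ModSite.HasPushOver O U] in
theorem homEquiv_symm_comp_map {X N : ModSite.Mod O}
    (h : X ⟶ (ModSite.sheafHom ((ModSite.quotOn O U).obj M)).obj N) :
    ((ModSite.sheafHomAdj M).homEquiv X N).symm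
        (h ≫ (ExtSupp.sheafHomMap (qπ U M)).app N) =
      ((ModSite.tensorBi O).obj X).map (qπ U M) ≫
        ((ModSite.sheafHomAdj ((ModSite.quotOn O U).obj M)).homEquiv X N).symm h := by
  rw [Adjunction.homEquiv_counit, Adjunction.homEquiv_counit, Functor.map_comp, Category.assoc,
    conjugateEquiv_counit]
  exact (((ModSite.tensorBi O).flip.map (qπ U M)).naturality_assoc h _)

theorem isIso_suppHom_app (N : ModSite.Mod O) : IsIso ((suppHom U M).app N) := by
  have hι : (suppHom U M).app N ≫ (ModSite.sectOnι O U).app ((ModSite.sheafHom M).obj N) =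
      (ExtSupp.sheafHomMap (qπ U M)).app N := kernel.lift_ι _ _ _
  haveI : Mono ((suppHom U M).app N) := by
    refine Preadditive.mono_of_cancel_zero _ fun {X} h hh => ?_
    have h0 : h ≫ (ExtSupp.sheafHomMap (qπ U M)).app N = 0 := by
      rw [← hι, ← Category.assoc, hh, zero_comp]
    have h1 := homEquiv_symm_comp_map U M h
    rw [h0, Adjunction.homEquiv_counit, Functor.map_zero, zero_comp] at h1
    haveI := preservesColimits_tensorBi X
    haveI : Epi (qπ U M) := inferInstanceAs (Epi (cokernel.π _))
    apply ((ModSite.sheafHomAdj ((ModSite.quotOn O U).obj M)).homEquiv X N).symm.injective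
    rw [Adjunction.homEquiv_counit (g := (0 : X ⟶ _)), Functor.map_zero, zero_comp]
    rw [← cancel_epi (((ModSite.tensorBi O).obj X).map (qπ U M)), ← h1, comp_zero]
  let X := (ModSite.sectOn O U).obj ((ModSite.sheafHom M).obj N)
  let g : X ⟶ (ModSite.sheafHom M).obj N := (ModSite.sectOnι O U).app _
  haveI := isIso_tensor_quotOnπ U (isNullOn_sectOn U ((ModSite.sheafHom M).obj N)) M
  let k : X ⟶ (ModSite.sheafHom ((ModSite.quotOn O U).obj M)).obj N :=
    (ModSite.sheafHomAdj _).homEquiv X N
      (inv (((ModSite.tensorBi O).obj X).map (qπ U M)) ≫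
        ((ModSite.sheafHomAdj M).homEquiv X N).symm g)
  have hk : k ≫ (ExtSupp.sheafHomMap (qπ U M)).app N = g := by
    apply ((ModSite.sheafHomAdj M).homEquiv X N).symm.injective
    rw [homEquiv_symm_comp_map]
    simp only [k, Equiv.symm_apply_apply, IsIso.hom_inv_id_assoc]
  haveI : Mono g := inferInstanceAs (Mono (kernel.ι _))
  haveI : IsSplitEpi ((suppHom U M).app N) := ⟨⟨⟨k, by
    rw [← cancel_mono g]
    refine (Category.assoc _ _ _).trans ((congrArg (k ≫ ·) hι).trans (hk.trans (Category.id_comp g).symm))⟩⟩⟩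
  exact isIso_of_mono_of_isSplitEpi _

/-- `ℋom(M/M_U, -) ≅ Γ_Z ℋom(M, -)`. -/
noncomputable def suppHomIso :
    ModSite.sheafHom ((ModSite.quotOn O U).obj M) ≅ ModSite.sheafHom M ⋙ ModSite.sectOn O U :=
  haveI := fun N => isIso_suppHom_app U M N
  haveI : IsIso (suppHom U M) := NatIso.isIso_of_isIso_app _
  asIso (suppHom U M)

end Groth.Agent.ExtSS
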