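import Groth.Agent.ExtSS.SupportBridge
import Groth.Agent.ExtSS.CompositeClass
import Groth.Agent.ExtSS.Supports
import Groth.Agent.CAlgH3.SupportDepth
import Groth.Agent.SerreDual.ExtShBasic
import Groth.Agent.S12880
import Groth.Agent.S12879
import Groth.Agent.S6165

/-!
# Sheaf `Ext` with supports below the depth
-/

set_option autoImplicit false
set_option backward.isDefEq.respectTransparency false
set_option maxHeartbeats 1600000
set_option synthInstance.maxHeartbeats 400000
set_option linter.style.haveILetI false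

universe u

open CategoryTheory CategoryTheory.Limits AlgebraicGeometry Opposite TopologicalSpace
open Groth.Agent.Coherent

namespace Groth.Agent.ExtSS

variable {X : Scheme.{u}}

/-- A module with vanishing stalks on an open has no sections there. -/
theorem eq_zero_of_stalks {M : X.Modules} {V : X.Opens}
    (h : ∀ z ∈ V, Subsingleton (M.presheaf.stalk z)) (s : Γ(M, V)) : s = 0 :=
  TopCat.Presheaf.section_ext (⟨M.presheaf, M.isSheaf⟩ : TopCat.Sheaf Ab.{u} X.toTopCat) V _ _ fun z hz =>
    haveI := h z hz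
    Subsingleton.elim _ _

theorem subsingleton_stalk_of_null {M : X.Modules} {U : X.Opens} (h : ModSite.IsNullOn X.sheaf U M) {x : X}
    (hx : x ∈ U) : Subsingleton (M.presheaf.stalk x) := by
  refine subsingleton_of_forall_eq 0 fun t => ?_
  obtain ⟨V, hV, s, rfl⟩ := TopCat.Presheaf.exists_germ_eq M.presheaf t
  rw [← TopCat.Presheaf.germ_res_apply M.presheaf (homOfLE (inf_le_left : V ⊓ U ≤ V)) x ⟨hV, hx⟩ s]
  have h0 : M.presheaf.map (homOfLE (inf_le_left : V ⊓ U ≤ V)).op s = 0 :=
    (ExtSupp.isNullOn_iff (O := X.sheaf) U M).1 h (homOfLE inf_le_right) _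
  exact (congrArg (M.presheaf.germ (V ⊓ U) x ⟨hV, hx⟩) h0).trans (map_zero _)

section Enlarge

variable (U U' : X.Opens) (hle : U ≤ U') (F : X.Modules) (hcl : IsClosed (CohB1.support F))
  (hsupp : ∀ x ∈ U', x ∉ U → x ∉ CohB1.support F)

include hcl hsupp in
theorem isNullOn_gammaZ_hom (N : X.Modules) :
    ModSite.IsNullOn X.sheaf U' ((DCoh.gammaZ U.ι).obj (internalHom F N)) := by
  refine (ExtSupp.isNullOn_iff (O := X.sheaf) U' _).2 fun V g s => ?_
  let K := (DCoh.gammaZ U.ι).obj (internalHom F N)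
  refine TopCat.Presheaf.section_ext (⟨K.presheaf, K.isSheaf⟩ : TopCat.Sheaf Ab.{u} X.toTopCat) V _ _
    fun z hz => ?_
  by_cases hzU : z ∈ U
  · haveI := subsingleton_stalk_of_null (isNullOn_gammaZ U (internalHom F N)) hzU
    exact Subsingleton.elim (α := K.presheaf.stalk z) _ _
  · let W : X.Opens := ⟨(CohB1.support F)ᶜ, hcl.isOpen_compl⟩
    let ι := kernel.ι ((Scheme.Modules.restrictAdjunction U.ι).unit.app (internalHom F N))
    have h0 : resM K (inf_le_left : V ⊓ W ≤ V) s = 0 := by
      apply app_injective_of_mono ι (V ⊓ W)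
      refine Eq.trans ?_ (map_zero _).symm
      refine locHom_ext (φ := secHom _) (ψ := secHom _) fun W' hW' a => ?_
      have ha : a = 0 := eq_zero_of_stalks (fun w hw => by
        by_contra hc
        exact (hW' hw).2 hc) a
      exact (congrArg _ ha).trans ((map_zero _).trans (((congrArg _ ha).trans (map_zero _)).symm))
    refine (TopCat.Presheaf.germ_res_apply K.presheaf (homOfLE (inf_le_left : V ⊓ W ≤ V)) z
      ⟨hz, hsupp z (leOfHom g hz) hzU⟩ s).symm.trans ?_
    exact ((congrArg _ h0).trans (map_zero _)).trans (map_zero _).symm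

include hle hcl hsupp in
/-- `Γ_Z Hom(F, -)` only depends on the part of `Z` meeting the support of `F`. -/
theorem nonempty_gammaZ_hom_iso :
    Nonempty (internalHomFunctor F ⋙ DCoh.gammaZ U.ι ≅ internalHomFunctor F ⋙ DCoh.gammaZ U'.ι) := by
  have hn : ∀ N, ModSite.IsNullOn X.sheaf U ((DCoh.gammaZ U'.ι).obj (internalHom F N)) := fun N =>
    (ExtSupp.isNullOn_iff (O := X.sheaf) U _).2 fun V g s =>
      (ExtSupp.isNullOn_iff (O := X.sheaf) U' _).1 (isNullOn_gammaZ U' _) (homOfLE ((leOfHom g).trans hle)) s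
  exact ⟨NatIso.ofComponents (fun N =>
    { hom := kernel.lift _ (kernel.ι ((Scheme.Modules.restrictAdjunction U.ι).unit.app (internalHom F N)))
        (comp_unit_restrict_eq_zero U' (isNullOn_gammaZ_hom U U' F hcl hsupp N) _)
      inv := kernel.lift _ (kernel.ι ((Scheme.Modules.restrictAdjunction U'.ι).unit.app (internalHom F N)))
        (comp_unit_restrict_eq_zero U (hn N) _)
      hom_inv_id := by
        refine (cancel_mono (kernel.ι _)).1 ?_
        exact (Category.assoc _ _ _).trans ((congrArg _ (kernel.lift_ι _ _ _)).trans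
          ((kernel.lift_ι _ _ _).trans (Category.id_comp _).symm))
      inv_hom_id := by
        refine (cancel_mono (kernel.ι _)).1 ?_
        exact (Category.assoc _ _ _).trans ((congrArg _ (kernel.lift_ι _ _ _)).trans
          ((kernel.lift_ι _ _ _).trans (Category.id_comp _).symm)) })
    fun {N N'} φ => by
      refine (cancel_mono (kernel.ι _)).1 ?_
      refine (Category.assoc _ _ _).trans ((congrArg _ (kernel.lift_ι _ _ _)).trans ?_)
      refine (kernel.lift_ι _ _ _).trans (Eq.trans ?_ (Category.assoc _ _ _).symm)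
      refine Eq.trans ?_ (congrArg (_ ≫ ·) (kernel.lift_ι _ _ _).symm)
      exact ((congrArg (· ≫ _) (kernel.lift_ι _ _ _).symm).trans (Category.assoc _ _ _))⟩

end Enlarge

variable [IsLocallyNoetherian X] [HasInjectiveResolutions (ModSite.Mod X.sheaf)]

/-- Below the depth along the support, the sheaf `Ext` with supports vanishes. -/
theorem isZero_extZSh_of_depth (U : X.Opens) (F G : X.Modules) (hF : Coh.IsCoh F) (hG : Coh.IsCoh G) (n : ℕ)
    (hdepth : ∀ x ∈ CohB1.support F, x ∉ (U : Set X) →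
      (n : ℕ∞) ≤ _root_.LocCoh.depth (X.presheaf.stalk x) (G.presheaf.stalk x))
    [ModSite.HasSheafHom (O := X.sheaf) F] (i : ℕ) (hi : i < n) :
    IsZero ((ModSite.extZSh (O := X.sheaf) U F i).obj G) := by
  haveI hinj : HasInjectiveResolutions X.Modules := hasInjectiveResolutions_modules X
  have hcl : IsClosed (CohB1.support F) := isClosed_support F (locallyFinGen_of_isFT F hF.2)
  let U' : X.Opens := U ⊔ ⟨(CohB1.support F)ᶜ, hcl.isOpen_compl⟩
  haveI := Groth.Agent.S6165.result X.sheaf ((ModSite.quotOn X.sheaf U').obj F)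
  let S : X.Modules ⥤ X.Modules := ModSite.sheafHom (O := X.sheaf) F
  let T : X.Modules ⥤ X.Modules := ModSite.sectOn X.sheaf U'
  let T₀ : X.Modules ⥤ X.Modules := ModSite.sectOn X.sheaf U
  haveI : T.Additive := ModSite.sectOn_additive X.sheaf U'
  haveI : T₀.Additive := ModSite.sectOn_additive X.sheaf U
  haveI : T.PreservesInjectiveObjects := preservesInjectiveObjects_sectOn (O := X.sheaf) U'
  haveI : S.IsRightAdjoint := (ModSite.sheafHomAdj (O := X.sheaf) F).isRightAdjoint
  haveI : PreservesFiniteLimits S := ⟨fun _ _ _ => inferInstance⟩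
  haveI : S.Additive := ModSite.sheafHom_additive X.sheaf F
  haveI : (DCoh.gammaZ U'.ι).Additive := Functor.additive_of_iso (sectOnIsoGammaZ U')
  have hz : ∀ q, q < n → IsZero ((T.rightDerived q).obj G) := fun q hq =>
    (isZero_HZshM U' G q ((CAlgH3.SupportDepth.isZero_iff_depth X U' G hG n).2 (fun x hx =>
      hdepth x (not_not.1 fun h => hx (Or.inr h)) fun h => hx (Or.inl h)) q hq)).of_iso
      ((SiteCoh.rightDerivedCongr (sectOnIsoGammaZ U') q).app G)
  have hP : SpecSeq.ClassPair (C := X.Modules) (fun M => IsZero M) (fun _ => True) :=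
    { le := fun _ _ => trivial
      isoP := fun e h => h.of_iso e.symm
      isoQ := fun _ _ => trivial
      zeroP := fun _ h => h
      kerP := fun φ h _ => IsZero.of_mono (kernel.ι φ) h
      cokerP := fun φ _ h => IsZero.of_epi (cokernel.π φ) h
      kerQ := fun _ _ _ => trivial
      cokerQ := fun _ _ _ => trivial
      extP := fun Sc hS h₁ h₃ => hS.exact.isZero_X₂ (h₁.eq_of_src _ _) (h₃.eq_of_tgt _ _) }
  have h := mem_rightDerived_comp hP T S G
    (fun J hJ q hq => by
      haveI := hJ
      exact SpecSeq.isZero_rightDerived_injective _ _ hq)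
    (fun p q => trivial) i (fun a b hab => by
      have hb := hz b (by omega)
      rcases Nat.eq_zero_or_pos a with rfl | ha
      · exact (S.map_isZero hb).of_iso (S.rightDerivedZeroIsoSelf.app _)
      · haveI : Injective ((T.rightDerived b).obj G) := ⟨fun _ _ _ => ⟨0, hb.eq_of_tgt _ _⟩⟩
        exact SpecSeq.isZero_rightDerived_injective _ _ ha)
  obtain ⟨e⟩ := nonempty_gammaZ_hom_iso U U' le_sup_left F hcl (fun x hx hxU => by
    rcases hx with hx | hx
    · exact absurd hx hxU
    · exact hx)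
  let eS : S ≅ internalHomFunctor F := SerreDual.msSheafHomIso F
  let e₀ : S ⋙ T₀ ≅ S ⋙ T := Functor.isoWhiskerRight eS T₀ ≪≫
    Functor.isoWhiskerLeft (internalHomFunctor F) (sectOnIsoGammaZ U) ≪≫ e ≪≫
    Functor.isoWhiskerLeft (internalHomFunctor F) (sectOnIsoGammaZ U').symm ≪≫
    Functor.isoWhiskerRight eS.symm T
  let e₁ : S ⋙ T ≅ T ⋙ S := sectHomIso U' F
  exact h.of_iso ((SiteCoh.rightDerivedCongr (e₀ ≪≫ e₁) i).app G)

/-- The complexes `Hom(-, Γ_Z I)` of a short exact sequence form a short exact sequence. -/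
theorem exists_shortExact_homSupp {Sh : ShortComplex X.Modules} (hS : Sh.ShortExact)
    [HasInjectiveResolutions X.Modules] (G : X.Modules)
    (T : X.Modules ⥤ X.Modules) [T.Additive] [T.PreservesInjectiveObjects]
    (I : InjectiveResolution G) :
    ∃ (f : ((T ⋙ internalHomFunctor Sh.X₃).mapHomologicalComplex (ComplexShape.up ℕ)).obj I.cocomplex ⟶
        ((T ⋙ internalHomFunctor Sh.X₂).mapHomologicalComplex (ComplexShape.up ℕ)).obj I.cocomplex)
      (g : ((T ⋙ internalHomFunctor Sh.X₂).mapHomologicalComplex (ComplexShape.up ℕ)).obj I.cocomplex ⟶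
        ((T ⋙ internalHomFunctor Sh.X₁).mapHomologicalComplex (ComplexShape.up ℕ)).obj I.cocomplex)
      (w : f ≫ g = 0), (ShortComplex.mk f g w).ShortExact := by
  refine ⟨(NatTrans.mapHomologicalComplex (Functor.whiskerLeft T (SerreDual.precomp Sh.g)) _).app _,
    (NatTrans.mapHomologicalComplex (Functor.whiskerLeft T (SerreDual.precomp Sh.f)) _).app _,
    HomologicalComplex.hom_ext _ _ fun i => by
      show SerreDual.precompApp Sh.g (T.obj (I.cocomplex.X i)) ≫
        SerreDual.precompApp Sh.f (T.obj (I.cocomplex.X i)) = 0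
      exact (SerreDual.precompApp_comp Sh.f Sh.g _).symm.trans
        ((congrArg (SerreDual.precompApp · _) Sh.zero).trans (SerreDual.precompApp_zero _ _ _)), ?_⟩
  exact HomologicalComplex.shortExact_of_degreewise_shortExact _ fun i => by
    haveI := I.injective i
    haveI := T.injective_obj_of_injective (I.injective i)
    exact SerreDual.shortExact_precomp hS (T.obj (I.cocomplex.X i))

/-- Coherence of the sheaf `Ext` with supports, given vanishing for modules supported in the closure of the part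
of the support outside `Z`. -/
theorem isCoh_extZSh_of_vanishing (U : X.Opens) (F G : X.Modules) (hF : Coh.IsCoh F) (hG : Coh.IsCoh G) (i : ℕ)
    [ModSite.HasSheafHom (O := X.sheaf) F]
    (hvan : ∀ (F'' : X.Modules) [ModSite.HasSheafHom (O := X.sheaf) F''], Coh.IsCoh F'' →
      (∀ x ∈ CohB1.support F'', x ∉ (U : Set X) → x ∈ closure (CohB1.support F ∩ (U : Set X))) →
      IsZero ((ModSite.extZSh (O := X.sheaf) U F'' i).obj G)) :
    Coh.IsCoh ((ModSite.extZSh (O := X.sheaf) U F i).obj G) := by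
  haveI hinj : HasInjectiveResolutions X.Modules := hasInjectiveResolutions_modules X
  haveI := hF.1
  let η := (Scheme.Modules.restrictAdjunction U.ι).unit.app F
  let Sh := ShortComplex.mk (kernel.ι η) (cokernel.π (kernel.ι η)) (cokernel.condition _)
  have hSh : Sh.ShortExact := { exact := ShortComplex.exact_cokernel _ }
  have hq : Coh.IsQCoh ((Scheme.Modules.pushforward U.ι).obj (F.restrict U.ι)) := isQCoh_push U.ι _
  have hF' : Coh.IsCoh Sh.X₁ := isCoh_kernel η hF hq
  have hF'' : Coh.IsCoh Sh.X₃ := isCoh_cokernel _ hF'.1 hF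
  have hnull : ModSite.IsNullOn X.sheaf U Sh.X₁ := isNullOn_gammaZ U F
  have hsupp' : ∀ x ∈ CohB1.support Sh.X₁, x ∉ (U : Set X) := fun x hx hxU =>
    hx (subsingleton_stalk_of_null hnull hxU)
  have hsupp'' : ∀ x ∈ CohB1.support Sh.X₃, x ∉ (U : Set X) →
      x ∈ closure (CohB1.support F ∩ (U : Set X)) := fun x hx hxU => by
    by_contra hc
    let W : X.Opens := ⟨(closure (CohB1.support F ∩ (U : Set X)))ᶜ, isClosed_closure.isOpen_compl⟩
    refine hx (subsingleton_of_forall_eq 0 fun t => ?_)
    obtain ⟨V, hV, s, rfl⟩ := TopCat.Presheaf.exists_germ_eq Sh.X₃.presheaf t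
    obtain ⟨V₁, hV₁, hxV₁, y, hy⟩ := exists_lift_of_epi Sh.g (V ⊓ W) (resM Sh.X₃ inf_le_left s) x ⟨hV, hc⟩
    have hη : η.app V₁ y = 0 := by
      refine (unit_restrict_app U F V₁ y).trans ?_
      refine eq_zero_of_stalks (fun z hz => ?_) _
      obtain ⟨w, hw, rfl⟩ := hz
      by_contra hzc
      exact (hV₁ hw).2 (subset_closure ⟨hzc, w.2⟩)
    obtain ⟨k, hk⟩ := kernel_sections_exact η y hη
    have hy0 : Sh.g.app V₁ y = 0 := by
      rw [← hk]
      exact congrArg (fun φ : Sh.X₁ ⟶ Sh.X₃ => φ.app V₁ k) Sh.zero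
    rw [← TopCat.Presheaf.germ_res_apply Sh.X₃.presheaf (homOfLE (inf_le_left : V ⊓ W ≤ V)) x ⟨hV, hc⟩ s,
      ← TopCat.Presheaf.germ_res_apply Sh.X₃.presheaf (homOfLE hV₁) x hxV₁]
    exact (congrArg _ (hy.symm.trans hy0)).trans (map_zero _)
  haveI : ModSite.HasSheafHom (O := X.sheaf) Sh.X₁ := Groth.Agent.S6165.result X.sheaf _
  haveI : ModSite.HasSheafHom (O := X.sheaf) Sh.X₃ := Groth.Agent.S6165.result X.sheaf _
  let T : X.Modules ⥤ X.Modules := ModSite.sectOn X.sheaf U
  haveI : T.Additive := ModSite.sectOn_additive X.sheaf U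
  haveI : T.PreservesInjectiveObjects := preservesInjectiveObjects_sectOn (O := X.sheaf) U
  let I := injectiveResolution G
  have key : ∀ (M : X.Modules) [ModSite.HasSheafHom (O := X.sheaf) M],
      Nonempty ((ModSite.extZSh (O := X.sheaf) U M i).obj G ≅
        (((T ⋙ internalHomFunctor M).mapHomologicalComplex (ComplexShape.up ℕ)).obj I.cocomplex).homology i) := by
    intro M _
    haveI := Groth.Agent.S6165.result X.sheaf ((ModSite.quotOn X.sheaf U).obj M)
    let SM : X.Modules ⥤ X.Modules := ModSite.sheafHom (O := X.sheaf) M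
    haveI : SM.Additive := ModSite.sheafHom_additive X.sheaf M
    haveI : (internalHomFunctor M).Additive := SerreDual.additive_internalHomFunctor M
    let e : SM ⋙ T ≅ T ⋙ internalHomFunctor M :=
      (sectHomIso U M : SM ⋙ T ≅ T ⋙ SM) ≪≫ Functor.isoWhiskerLeft T (SerreDual.msSheafHomIso M)
    exact ⟨(SiteCoh.rightDerivedCongr e i).app G ≪≫ I.isoRightDerivedObj _ i⟩
  haveI : (internalHomFunctor Sh.X₁).Additive := SerreDual.additive_internalHomFunctor _
  haveI : (internalHomFunctor Sh.X₂).Additive := SerreDual.additive_internalHomFunctor _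
  haveI : (internalHomFunctor Sh.X₃).Additive := SerreDual.additive_internalHomFunctor _
  obtain ⟨f, g, w, hex⟩ := exists_shortExact_homSupp hSh G T I
  obtain ⟨e₁⟩ := key Sh.X₁
  obtain ⟨e₂⟩ := key F
  obtain ⟨e₃⟩ := key Sh.X₃
  have h0 := (hvan Sh.X₃ hF'' hsupp'').of_iso e₃.symm
  let A : X.Modules := (ModSite.extZSh (O := X.sheaf) U F i).obj G
  let B : X.Modules := (ModSite.extZSh (O := X.sheaf) U Sh.X₁ i).obj G
  let ψ : A ⟶ B := (e₂.hom ≫ HomologicalComplex.homologyMap g i ≫ e₁.inv :)
  haveI : Mono (HomologicalComplex.homologyMap g i) :=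
    (hex.homology_exact₂ i).mono_g (h0.eq_of_src _ _)
  haveI : Mono ψ := mono_comp _ _
  have hc : Coh.IsCoh B := Groth.Agent.S12880.result X U Sh.X₁ G hF' hG hsupp' i
  haveI hqc : Coh.IsQCoh A := Groth.Agent.S12879.result X U F G hF hG.1 i
  haveI := hc.1
  have e : kernel (cokernel.π ψ) ≅ A :=
    IsLimit.conePointUniqueUpToIso (kernelIsKernel (cokernel.π ψ)) (ShortComplex.exact_cokernel ψ).fIsKernel
  exact isCoh_of_iso e (isCoh_kernel (cokernel.π ψ) hc (isQCoh_cokernel ψ))

/-- Coherence of the sheaf `Ext` with supports below the depth on the boundary of the support. -/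
theorem isCoh_extZSh_of_depth (U : X.Opens) (F G : X.Modules) (hF : Coh.IsCoh F) (hG : Coh.IsCoh G) (n : ℕ)
    (hdepth : ∀ x ∈ closure (CohB1.support F ∩ (U : Set X)), x ∉ (U : Set X) →
      (n : ℕ∞) ≤ _root_.LocCoh.depth (X.presheaf.stalk x) (G.presheaf.stalk x))
    [ModSite.HasSheafHom (O := X.sheaf) F] (i : ℕ) (hi : i < n) :
    Coh.IsCoh ((ModSite.extZSh (O := X.sheaf) U F i).obj G) :=
  isCoh_extZSh_of_vanishing U F G hF hG i fun F'' _ hF'' hs =>
    isZero_extZSh_of_depth U F'' G hF'' hG n (fun x hx hxU => hdepth x (hs x hx hxU) hxU) i hi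

end Groth.Agent.ExtSS
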