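import Groth.Agent.SerreDual.ExtShBasic
import Groth.Agent.Coherent.RpushComp
import Groth.Agent.SpecSeq.SheafSS

/-!
# Relative sheaf Ext: acyclicity for direct images
-/

set_option autoImplicit false
set_option backward.isDefEq.respectTransparency false

universe u

open CategoryTheory CategoryTheory.Limits AlgebraicGeometry Opposite TopologicalSpace
open Groth.Agent.Coherent Groth.Agent.PicLib

namespace Groth.Agent.ExtSS

variable {X Y Z : Scheme.{u}}

/-- The internal hom into an injective module is flasque. -/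
theorem isFlasque_sheafHom (F I : X.Modules) [Injective I] [ModSite.HasSheafHom (O := X.sheaf) F] :
    TopCat.Sheaf.IsFlasque (X := X.toTopCat) (Coh.toAb ((ModSite.sheafHom (O := X.sheaf) F).obj I)) := by
  let e : (Coh.toAb ((ModSite.sheafHom (O := X.sheaf) F).obj I) : _) ≅
      Coh.toAb (internalHom F I) :=
    (toAbFunctor X).mapIso ((SerreDual.msSheafHomIso F).app I)
  let e' := (sheafToPresheaf _ _).mapIso e
  refine ⟨fun {U V} i => ?_⟩
  have hE : Epi ((Coh.toAb (internalHom F I)).obj.map i) := (AddCommGrpCat.epi_iff_surjective _).2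
    (surjective_resM_internalHom F I (U := V.unop) (V := U.unop) (leOfHom i.unop))
  have h : (Coh.toAb ((ModSite.sheafHom (O := X.sheaf) F).obj I)).obj.map i =
      e'.hom.app U ≫ (Coh.toAb (internalHom F I)).obj.map i ≫ e'.inv.app V := by
    erw [e'.inv.naturality i]
    exact (Iso.hom_inv_id_app_assoc e' U _).symm
  rw [h]
  infer_instance

/-- `R^q g_*` kills the direct image of a flasque module. -/
theorem isZero_rpush_push_flasque (f : X ⟶ Y) (g : Y ⟶ Z) [HasInjectiveResolutions Y.Modules]
    (M : X.Modules) [TopCat.Sheaf.IsFlasque (X := X.toTopCat) (Coh.toAb M)] (q : ℕ) :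
    IsZero ((Coh.Rpush g (q + 1)).obj ((Coh.push f).obj M)) := by
  have := isFlasque_pushAb f (Coh.toAb M)
  have h : IsZero ((Coh.RpushAb g (q + 1)).obj (Coh.toAb ((Coh.push f).obj M))) :=
    SiteCoh.isZero_rpush_of_isFlasque (X := Y.toTopCat) (Y := Z.toTopCat) g.base
      ((Coh.pushAb f).obj (Coh.toAb M)) q
  have h' : IsZero ((toAbFunctor Z).obj ((Coh.Rpush g (q + 1)).obj ((Coh.push f).obj M))) :=
    h.of_iso ((toAbRpushNatIso g (q + 1)).app _)
  rw [IsZero.iff_id_eq_zero] at h' ⊢
  exact (toAbFunctor Z).map_injective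
    (((toAbFunctor Z).map_id _).trans (h'.trans ((toAbFunctor Z).map_zero _ _).symm))

theorem preservesFiniteLimits_push (f : X ⟶ Y) : PreservesFiniteLimits (Scheme.Modules.pushforward f) :=
  have : (Scheme.Modules.pushforward f).IsRightAdjoint :=
    (Scheme.Modules.pullbackPushforwardAdjunction f).isRightAdjoint
  ⟨fun _ _ _ => inferInstance⟩

end Groth.Agent.ExtSS
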