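import Groth.Agent.ExtSS.ExtZDepth
import Groth.Agent.SerreDual.ExtShStalk
import Groth.Agent.SerreDual.ExtShRestrict
import Groth.Agent.CycLib28.StalkGen
import Groth.Agent.EGA43.DimFormula.StalkSupport
import Groth.Agent.CAlgH3.ProjDim
import Groth.Agent.AssSch12.Primary
import Groth.Agent.ExtSS.RelExt

/-!
# Sheaf `Ext` with supports above the dimension of the local rings, regular case
-/

set_option autoImplicit false
set_option backward.isDefEq.respectTransparency false
set_option linter.style.haveILetI false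
set_option maxHeartbeats 1600000
set_option synthInstance.maxHeartbeats 400000

universe u

open CategoryTheory CategoryTheory.Limits AlgebraicGeometry Opposite TopologicalSpace CategoryTheory.Abelian
open Groth.Agent.Coherent

namespace Groth.Agent.ExtSS

variable {X : Scheme.{u}} [IsLocallyNoetherian X]

/-- `Ext^p` of finite modules over a regular local ring vanishes above the dimension. -/
theorem subsingleton_ext_of_regular {A : Type u} [CommRing A] [IsRegularLocalRing A] (M N : ModuleCat.{u} A)
    [Module.Finite A M] (p : ℕ) (h : ringKrullDim A < (p : WithBot ℕ∞)) : Subsingleton (Ext M N p) := by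
  haveI : HasProjectiveDimensionLT M ((IsLocalRing.maximalIdeal A).spanFinrank + 1) := CAlgH3.pd_finite (R := A) M
  have hd : ((IsLocalRing.maximalIdeal A).spanFinrank : WithBot ℕ∞) = ringKrullDim A :=
    IsRegularLocalRing.spanFinrank_maximalIdeal
  rw [← hd] at h
  have h' : (IsLocalRing.maximalIdeal A).spanFinrank < p := by exact_mod_cast h
  exact HasProjectiveDimensionLT.subsingleton M ((IsLocalRing.maximalIdeal A).spanFinrank + 1) p (by omega) N

/-- The stalk of sheaf `Ext` vanishes at points with small local ring. -/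
theorem subsingleton_stalk_ext (hreg : ∀ x : X, IsRegularLocalRing (X.presheaf.stalk x)) {F G : X.Modules}
    (hF : Coh.IsCoh F) (hG : Coh.IsCoh G) (I : InjectiveResolution G) (p : ℕ) (y : X)
    (h : ringKrullDim (X.presheaf.stalk y) < (p : WithBot ℕ∞)) :
    Subsingleton (((SerreDual.homCx F I).homology p).presheaf.stalk y) := by
  obtain ⟨V, hV, hy, -⟩ := exists_isAffineOpen_mem_and_subset (x := y) (U := ⊤) (Set.mem_univ _)
  haveI : IsAffine (V : Scheme.{u}) := hV
  haveI := hasInjectiveResolutions_modules (V : Scheme.{u})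
  let J := injectiveResolution (G.restrict V.ι)
  obtain ⟨w⟩ := SerreDual.nonempty_homology_restrict V.ι (F := F) I J p
  let z : (V : Scheme.{u}) := ⟨y, hy⟩
  have eA : X.presheaf.stalk y ≃+* (V : Scheme.{u}).presheaf.stalk z :=
    (asIso (V.ι.stalkMap z)).commRingCatIsoToRingEquiv
  haveI := hreg y
  haveI : IsRegularLocalRing ((V : Scheme.{u}).presheaf.stalk z) := IsRegularLocalRing.of_ringEquiv eA
  haveI : Module.Finite ((V : Scheme.{u}).presheaf.stalk z) ((DerSch.stalkFunctor (V : Scheme.{u}) z).obj (F.restrict V.ι)) :=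
    AssSch12.finite_stalk (AmpleLib.isCoh_restrict V.ι F hF) z
  obtain ⟨e⟩ := SerreDual.nonempty_stalk_homology_affine z J p (AmpleLib.isCoh_restrict V.ι F hF)
  haveI : Subsingleton (Ext ((DerSch.stalkFunctor (V : Scheme.{u}) z).obj (F.restrict V.ι))
      ((DerSch.stalkFunctor (V : Scheme.{u}) z).obj (G.restrict V.ι)) p) :=
    subsingleton_ext_of_regular _ _ p (by rwa [← ringKrullDim_eq_of_ringEquiv eA])
  haveI : Subsingleton (((SerreDual.homCx (F.restrict V.ι) J).homology p).presheaf.stalk z) :=
    e.toEquiv.subsingleton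
  let e₁ := ((Scheme.Modules.toPresheaf _ ⋙ TopCat.Presheaf.stalkFunctor Ab.{u} z).mapIso w).addCommGroupIsoToAddEquiv
  let e₂ := ((Scheme.Modules.restrictStalkNatIso V.ι z).app ((SerreDual.homCx F I).homology p)).addCommGroupIsoToAddEquiv
  have h1 := @Equiv.subsingleton _ _ e₁.toEquiv ‹Subsingleton (((SerreDual.homCx (F.restrict V.ι) J).homology p).presheaf.stalk z)›
  exact @Equiv.subsingleton _ _ e₂.symm.toEquiv h1

/-- If the stalks vanish at the points with small local ring, the support of a stalk is small. -/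
theorem supportDim_stalk_lt (M : X.Modules) [hM : Coh.IsQCoh M] (x : X) (p q : ℕ)
    (hp : ∀ y : X, ringKrullDim (X.presheaf.stalk y) < (p : WithBot ℕ∞) → Subsingleton (M.presheaf.stalk y))
    (h : ringKrullDim (X.presheaf.stalk x) < ((p + q : ℕ) : WithBot ℕ∞)) :
    Module.supportDim (X.presheaf.stalk x) (M.presheaf.stalk x) < (q : WithBot ℕ∞) := by
  let S := Module.support (X.presheaf.stalk x) (M.presheaf.stalk x)
  have key : ∀ l : LTSeries S, ((l.length + p : ℕ) : WithBot ℕ∞) ≤ ringKrullDim (X.presheaf.stalk x) := fun l => by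
    have hP : EGA43.DimFormula.toPt x (l.head : PrimeSpectrum _) ∈ CohB1.support M :=
      (EGA43.DimFormula.mem_support_stalk_iff M x _).1 l.head.2
    have h1 : (p : WithBot ℕ∞) ≤ ((l.head : PrimeSpectrum (X.presheaf.stalk x)).asIdeal.height : WithBot ℕ∞) :=
      le_of_not_gt fun hlt => hP (hp _ (lt_of_eq_of_lt (CycLib28.ringKrullDim_stalk_eq_height x _) hlt))
    rw [PrimeSpectrum.height_eq_orderHeight] at h1
    have h2 : (l.length : ℕ∞) ≤ Order.coheight (l.head : PrimeSpectrum (X.presheaf.stalk x)) :=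
      Order.length_le_coheight_head (p := l.map Subtype.val fun _ _ hab => hab)
    refine le_trans ?_ (le_of_le_of_eq (WithBot.coe_le_coe.2 (le_iSup (fun a => Order.height a + Order.coheight a)
      (l.head : PrimeSpectrum (X.presheaf.stalk x)))) Order.krullDim_eq_iSup_height_add_coheight_of_nonempty.symm)
    rw [Nat.add_comm, Nat.cast_add, WithBot.coe_add]
    refine add_le_add h1 ?_
    exact_mod_cast h2
  by_cases hS : IsEmpty S
  · rw [Module.supportDim, Order.krullDim_eq_bot]
    exact WithBot.bot_lt_coe _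
  rcases q with _ | r
  · obtain ⟨s⟩ := not_isEmpty_iff.1 hS
    have h1 := (key (RelSeries.singleton _ s)).trans_lt h
    simp at h1
  refine lt_of_le_of_lt (iSup_le fun l => ?_) (WithBot.coe_lt_coe.2 (ENat.coe_lt_coe.2 r.lt_succ_self))
  have h1 := (key l).trans_lt h
  have h2 : l.length + p < p + (r + 1) := by exact_mod_cast h1
  exact_mod_cast (show l.length ≤ r by omega)

/-- Vanishing of local cohomology sheaves above the dimension of the supports of the stalks. -/
theorem isZero_HZsh_of_supportDim_lt (U : X.Opens) (M : X.Modules) [Coh.IsQCoh M] (i : ℕ)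
    (hi : ∀ x : X, x ∉ (U : Set X) → Module.supportDim (X.presheaf.stalk x) (M.presheaf.stalk x) < (i : WithBot ℕ∞)) :
    IsZero ((LocCohZ.HZsh (X := X.carrier) U i).obj (Coh.toAb M)) := by
  refine CAlgH3.SupportDepth.isZero_of_basis (X := X.carrier) U (Coh.toAb M) i _ X.isBasis_affineOpens fun V hV => ?_
  haveI : IsNoetherianRing Γ(X, V) := IsLocallyNoetherian.component_noetherian ⟨V, hV⟩
  obtain ⟨l⟩ := CAlgH3.SupportAffine.nonempty_sections M hV
  obtain ⟨e₁⟩ := CAlgH3.SupportAffine.nonempty_chart M hV U i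
  obtain ⟨e₂⟩ := CAlgH3.SupportAffine.nonempty_spec (M.restrict hV.fromSpec) inferInstance (hV.fromSpec ⁻¹ᵁ U) i
  let I := CAlgH3.SupportAffine.idealC (hV.fromSpec ⁻¹ᵁ U)
  suffices hs : Subsingleton (_root_.LocCoh.H I i Γ(M, V)) from
    ((e₁.trans e₂).trans ((_root_.localCohomology I i).mapIso l.toModuleIso).toLinearEquiv.toAddEquiv).toEquiv.subsingleton
  refine LocCoh.subsingleton_H_of_local _ _ i fun P hP => ?_
  have hxV : hV.fromSpec P ∈ V := hV.range_fromSpec.le ⟨P, rfl⟩
  have hxU : hV.fromSpec P ∉ (U : Set X) := (CAlgH3.SupportAffine.le_iff_notMem (hV.fromSpec ⁻¹ᵁ U) P).1 hP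
  haveI : IsNoetherianRing (Localization.AtPrime P.asIdeal) :=
    IsLocalization.isNoetherianRing P.asIdeal.primeCompl _ inferInstance
  let x := hV.fromSpec P
  have e : hV.primeIdealOf ⟨x, hxV⟩ = P :=
    hV.fromSpec.isOpenEmbedding.injective (hV.fromSpec_primeIdealOf _)
  let _ : Algebra Γ(X, V) (X.presheaf.stalk x) := (X.presheaf.germ V x hxV).hom.toAlgebra
  let _ : Module Γ(X, V) (M.presheaf.stalk x) := Module.compHom (M.presheaf.stalk x) (X.presheaf.germ V x hxV).hom
  haveI : IsScalarTower Γ(X, V) (X.presheaf.stalk x) (M.presheaf.stalk x) :=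
    IsScalarTower.of_algebraMap_smul fun _ _ => rfl
  let φ : Γ(M, V) →ₗ[Γ(X, V)] M.presheaf.stalk x :=
    { toFun := fun m => M.presheaf.germ V x hxV m
      map_add' := fun a b => map_add _ a b
      map_smul' := fun r m => QCohLoc.germ_smul' M hxV r m }
  haveI : IsLocalizedModule P.asIdeal.primeCompl φ := by
    have h := EGA43.QcohFP.isLocalizedModule_germ M hV hxV φ fun _ => rfl
    rwa [e] at h
  haveI : IsLocalization.AtPrime (X.presheaf.stalk x) P.asIdeal := by
    have h := hV.isLocalization_stalk ⟨x, hxV⟩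
    rwa [e] at h
  let B := Localization.AtPrime P.asIdeal
  let ea := IsLocalization.algEquiv P.asIdeal.primeCompl B (X.presheaf.stalk x)
  refine LocCoh.subsingleton_H_of_supportDim_lt ?_
  let _ : Algebra B (X.presheaf.stalk x) := ea.toRingEquiv.toRingHom.toAlgebra
  let _ : Module B (M.presheaf.stalk x) := Module.compHom (M.presheaf.stalk x) ea.toRingEquiv.toRingHom
  haveI : IsScalarTower B (X.presheaf.stalk x) (M.presheaf.stalk x) :=
    IsScalarTower.of_algebraMap_smul fun _ _ => rfl
  haveI : IsScalarTower Γ(X, V) B (M.presheaf.stalk x) :=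
    IsScalarTower.of_algebraMap_smul fun r m => by
      show ea (algebraMap Γ(X, V) B r) • m = r • m
      rw [ea.commutes]
      rfl
  rw [Module.supportDim_eq_of_equiv
    ((IsLocalizedModule.iso P.asIdeal.primeCompl φ).extendScalarsOfIsLocalization P.asIdeal.primeCompl B)]
  refine lt_of_le_of_lt ?_ (hi x hxU)
  refine Order.krullDim_le_of_strictMono (fun Q => ⟨PrimeSpectrum.comapEquiv ea.toRingEquiv Q.1, ?_⟩) fun Q Q' h =>
    (PrimeSpectrum.comapEquiv ea.toRingEquiv).strictMono h
  obtain ⟨m, hm⟩ := Module.mem_support_iff'.1 Q.2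
  refine Module.mem_support_iff'.2 ⟨m, fun r hr => ?_⟩
  have h := hm (ea.symm r) hr
  have h' : ea (ea.symm r) • m ≠ 0 := h
  rwa [AlgEquiv.apply_symm_apply] at h'

/-- Sheaf `Ext` with supports vanishes above the dimension of the local rings along the support. -/
theorem isZero_extZSh_of_dim [HasInjectiveResolutions (ModSite.Mod X.sheaf)]
    (hreg : ∀ x : X, IsRegularLocalRing (X.presheaf.stalk x)) (U : X.Opens) (F G : X.Modules)
    (hF : Coh.IsCoh F) (hG : Coh.IsCoh G) (i : ℕ)
    (hdim : ∀ x ∈ CohB1.support F, x ∉ (U : Set X) → ringKrullDim (X.presheaf.stalk x) < (i : WithBot ℕ∞))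
    [ModSite.HasSheafHom (O := X.sheaf) F] :
    IsZero ((ModSite.extZSh (O := X.sheaf) U F i).obj G) := by
  haveI hinj : HasInjectiveResolutions X.Modules := hasInjectiveResolutions_modules X
  have hcl : IsClosed (CohB1.support F) := isClosed_support F (locallyFinGen_of_isFT F hF.2)
  let U' : X.Opens := U ⊔ ⟨(CohB1.support F)ᶜ, hcl.isOpen_compl⟩
  let S : X.Modules ⥤ X.Modules := ModSite.sheafHom (O := X.sheaf) F
  let T₀ : X.Modules ⥤ X.Modules := ModSite.sectOn X.sheaf U
  haveI : T₀.Additive := ModSite.sectOn_additive X.sheaf U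
  haveI : S.Additive := ModSite.sheafHom_additive X.sheaf F
  let T : X.Modules ⥤ X.Modules := ModSite.sectOn X.sheaf U'
  haveI : T.Additive := ModSite.sectOn_additive X.sheaf U'
  haveI := Groth.Agent.S6165.result X.sheaf ((ModSite.quotOn X.sheaf U').obj F)
  haveI : T.IsRightAdjoint := (quotSectAdj (O := X.sheaf) U').isRightAdjoint
  haveI : PreservesFiniteLimits T := ⟨fun _ _ _ => inferInstance⟩
  haveI : (DCoh.gammaZ U'.ι).Additive := Functor.additive_of_iso (sectOnIsoGammaZ U')
  have hTz : ∀ (q : ℕ) (M : X.Modules), IsZero ((LocCohZ.HZsh (X := X.carrier) U' q).obj (Coh.toAb M)) →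
      IsZero ((T.rightDerived q).obj M) := fun q M h =>
    (isZero_HZshM U' M q h).of_iso ((SiteCoh.rightDerivedCongr (sectOnIsoGammaZ U') q).app M)
  have hP : SpecSeq.ClassPair (C := X.Modules) (fun M => IsZero M) (fun _ => True) :=
    { le := fun _ _ => trivial
      isoP := fun e h => h.of_iso e.symm
      isoQ := fun _ _ => trivial
      zeroP := fun _ h => h
      kerP := fun φ h _ => IsZero.of_mono (kernel.ι φ) h
      cokerP := fun φ _ h => IsZero.of_epi (cokernel.π φ) h
      kerQ := fun _ _ _ => trivial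
      cokerQ := fun _ _ _ => trivial
      extP := fun Sc hS h₁ h₃ => hS.exact.isZero_X₂ (h₁.eq_of_src _ _) (h₃.eq_of_tgt _ _) }
  have h := mem_rightDerived_comp hP S T G
    (fun J hJ q hq => by
      haveI := hJ
      haveI : TopCat.Sheaf.IsFlasque (X := X.toTopCat) (Coh.toAb (S.obj J)) := isFlasque_sheafHom F J
      exact hTz q _ (Supp15.isZero_rightDerived_sectSuppF (X := X.carrier) U' (Coh.toAb (S.obj J)) q hq))
    (fun p q => trivial) i (fun q p hpq => by
      let M : X.Modules := (S.rightDerived p).obj G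
      let eM : M ≅ (SerreDual.homCx F (injectiveResolution G)).homology p :=
        SerreDual.extShIso F (injectiveResolution G) p
      haveI : Coh.IsQCoh M :=
        haveI := isQCoh_homology_homCx hF hG.1 (injectiveResolution G) p
        isQCoh_of_iso eM.symm
      refine hTz q M (isZero_HZsh_of_supportDim_lt U' M q fun x hx => supportDim_stalk_lt M x p q (fun y hy => ?_) ?_)
      · exact @Equiv.subsingleton _ _
          ((Scheme.Modules.toPresheaf X ⋙ TopCat.Presheaf.stalkFunctor Ab.{u} y).mapIso eM).addCommGroupIsoToAddEquiv.toEquiv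
          (subsingleton_stalk_ext hreg hF hG (injectiveResolution G) p y hy)
      · rw [show p + q = i by omega]
        exact hdim x (not_not.1 fun h => hx (Or.inr h)) fun h => hx (Or.inl h))
  obtain ⟨e⟩ := nonempty_gammaZ_hom_iso U U' le_sup_left F hcl (fun x hx hxU => by
    rcases hx with hx | hx
    · exact absurd hx hxU
    · exact hx)
  let eS : S ≅ internalHomFunctor F := SerreDual.msSheafHomIso F
  let e₀ : S ⋙ T₀ ≅ S ⋙ T := Functor.isoWhiskerRight eS T₀ ≪≫
    Functor.isoWhiskerLeft (internalHomFunctor F) (sectOnIsoGammaZ U) ≪≫ e ≪≫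
    Functor.isoWhiskerLeft (internalHomFunctor F) (sectOnIsoGammaZ U').symm ≪≫
    Functor.isoWhiskerRight eS.symm T
  exact h.of_iso ((SiteCoh.rightDerivedCongr e₀ i).app G)

end Groth.Agent.ExtSS
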