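import Groth.Agent.ExtSS.ExtZDim
import Groth.Agent.ExtSS.DimSplit
import Groth.Agent.EGA43.FibDepth.Unit

/-!
# Sheaf `Ext` with supports into the structure sheaf away from the dimension
-/

set_option autoImplicit false
set_option backward.isDefEq.respectTransparency false
set_option linter.style.haveILetI false
set_option maxHeartbeats 1600000
set_option synthInstance.maxHeartbeats 400000

universe u

open CategoryTheory CategoryTheory.Limits AlgebraicGeometry Opposite TopologicalSpace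
open Groth.Agent.Coherent

namespace Groth.Agent.ExtSS

variable {X : Scheme.{u}}

section Split

variable (U₁ U₂ : X.Opens)

/-- Sections null on the bigger open are null on the smaller one. -/
theorem isNullOn_gammaZ_mono {U : X.Opens} (hle : U ≤ U₁) (N : X.Modules) :
    ModSite.IsNullOn X.sheaf U ((DCoh.gammaZ U₁.ι).obj N) :=
  (ExtSupp.isNullOn_iff (O := X.sheaf) U _).2 fun V g s =>
    (ExtSupp.isNullOn_iff (O := X.sheaf) U₁ _).1 (isNullOn_gammaZ U₁ _) (homOfLE ((leOfHom g).trans hle)) s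

/-- The inclusion of sections with smaller support. -/
noncomputable def gammaIncl {U : X.Opens} (hle : U ≤ U₁) : DCoh.gammaZ U₁.ι ⟶ DCoh.gammaZ U.ι where
  app N := kernel.lift _ (kernel.ι ((Scheme.Modules.restrictAdjunction U₁.ι).unit.app N))
    (comp_unit_restrict_eq_zero U (isNullOn_gammaZ_mono U₁ hle N) _)
  naturality N N' φ := by
    refine (cancel_mono (kernel.ι _)).1 ?_
    refine (Category.assoc _ _ _).trans ((congrArg _ (kernel.lift_ι _ _ _)).trans ?_)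
    refine (kernel.lift_ι _ _ _).trans (Eq.trans ?_ (Category.assoc _ _ _).symm)
    refine Eq.trans ?_ (congrArg (_ ≫ ·) (kernel.lift_ι _ _ _).symm)
    exact (congrArg (· ≫ _) (kernel.lift_ι _ _ _).symm).trans (Category.assoc _ _ _)

theorem gammaIncl_app_ι {U : X.Opens} (hle : U ≤ U₁) (N : X.Modules) :
    (gammaIncl U₁ hle).app N ≫ kernel.ι ((Scheme.Modules.restrictAdjunction U.ι).unit.app N) =
      kernel.ι ((Scheme.Modules.restrictAdjunction U₁.ι).unit.app N) :=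
  kernel.lift_ι _ _ _

/-- Sections with supports in a disjoint union of closed sets split. -/
theorem isIso_splitMap (h : U₁ ⊔ U₂ = ⊤) (N : X.Modules) :
    IsIso (biprod.desc ((gammaIncl U₁ (inf_le_left : U₁ ⊓ U₂ ≤ U₁)).app N)
      ((gammaIncl U₂ (inf_le_right : U₁ ⊓ U₂ ≤ U₂)).app N)) := by
  let G₁ := (DCoh.gammaZ U₁.ι).obj N
  let G₂ := (DCoh.gammaZ U₂.ι).obj N
  let G := (DCoh.gammaZ (U₁ ⊓ U₂).ι).obj N
  let a : G₁ ⟶ G := (gammaIncl U₁ (inf_le_left : U₁ ⊓ U₂ ≤ U₁)).app N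
  let b : G₂ ⟶ G := (gammaIncl U₂ (inf_le_right : U₁ ⊓ U₂ ≤ U₂)).app N
  let k₁ : G₁ ⟶ N := kernel.ι ((Scheme.Modules.restrictAdjunction U₁.ι).unit.app N)
  let k₂ : G₂ ⟶ N := kernel.ι ((Scheme.Modules.restrictAdjunction U₂.ι).unit.app N)
  let k : G ⟶ N := kernel.ι ((Scheme.Modules.restrictAdjunction (U₁ ⊓ U₂).ι).unit.app N)
  have ha : a ≫ k = k₁ := gammaIncl_app_ι _ _ N
  have hb : b ≫ k = k₂ := gammaIncl_app_ι _ _ N
  let ψ : G₁ ⊞ G₂ ⟶ G := biprod.desc a b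
  have happ : ∀ (V : X.Opens) (z : Γ(G₁ ⊞ G₂, V)), k.app V (ψ.app V z) =
      k₁.app V ((biprod.fst : G₁ ⊞ G₂ ⟶ G₁).app V z) + k₂.app V ((biprod.snd : G₁ ⊞ G₂ ⟶ G₂).app V z) := fun V z => by
    have hψ : ψ ≫ k = biprod.fst ≫ k₁ + biprod.snd ≫ k₂ := by
      apply biprod.hom_ext' <;> simp [ψ, ha, hb]
    exact congrArg (fun φ : G₁ ⊞ G₂ ⟶ N => φ.app V z) hψ
  have vres : ∀ (U : X.Opens) (M : X.Modules), ModSite.IsNullOn X.sheaf U M → ∀ (V : X.Opens) (s : Γ(M, V))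
      (W : X.Opens) (hW : W ≤ V), W ≤ U → resM M hW s = 0 := fun U M hM V s W hW hWU =>
    (ExtSupp.isNullOn_iff (O := X.sheaf) U M).1 hM (homOfLE hWU) _
  refine Scheme.Modules.Hom.isIso_iff_isIso_app.2 fun V => (ConcreteCategory.isIso_iff_bijective _).2 ⟨?_, ?_⟩
  · refine (injective_iff_map_eq_zero _).2 fun z hz => ?_
    have h0 : k₁.app V ((biprod.fst : G₁ ⊞ G₂ ⟶ G₁).app V z) + k₂.app V ((biprod.snd : G₁ ⊞ G₂ ⟶ G₂).app V z) = 0 :=
      (happ V z).symm.trans ((congrArg (k.app V) hz).trans (map_zero _))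
    have hzero : k₁.app V ((biprod.fst : G₁ ⊞ G₂ ⟶ G₁).app V z) = 0 := by
      refine TopCat.Presheaf.section_ext (⟨N.presheaf, N.isSheaf⟩ : TopCat.Sheaf Ab.{u} X.toTopCat) V _ _ fun w hw => ?_
      have hw' : w ∈ U₁ ∨ w ∈ U₂ := (h.ge (Opens.mem_top w) :)
      suffices hr : ∃ (W : X.Opens) (hW : W ≤ V), w ∈ W ∧ resM N hW (k₁.app V ((biprod.fst : G₁ ⊞ G₂ ⟶ G₁).app V z)) = 0 by
        obtain ⟨W, hW, hwW, hr⟩ := hr
        rw [← TopCat.Presheaf.germ_res_apply N.presheaf (homOfLE hW) w hwW, map_zero]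
        exact (congrArg _ hr).trans (map_zero _)
      rcases hw' with hw₁ | hw₂
      · refine ⟨V ⊓ U₁, inf_le_left, ⟨hw, hw₁⟩, ?_⟩
        rw [← app_resM]
        exact (congrArg _ (vres U₁ G₁ (isNullOn_gammaZ U₁ N) V _ _ inf_le_left inf_le_right)).trans (map_zero _)
      · refine ⟨V ⊓ U₂, inf_le_left, ⟨hw, hw₂⟩, ?_⟩
        rw [eq_neg_of_add_eq_zero_left h0, map_neg, neg_eq_zero, ← app_resM]
        exact (congrArg _ (vres U₂ G₂ (isNullOn_gammaZ U₂ N) V _ _ inf_le_left inf_le_right)).trans (map_zero _)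
    have h1 : (biprod.fst : G₁ ⊞ G₂ ⟶ G₁).app V z = 0 :=
      app_injective_of_mono k₁ V (hzero.trans (map_zero _).symm)
    have h2 : (biprod.snd : G₁ ⊞ G₂ ⟶ G₂).app V z = 0 := by
      rw [hzero, zero_add] at h0
      exact app_injective_of_mono k₂ V (h0.trans (map_zero _).symm)
    have ht : z = (biprod.inl : G₁ ⟶ G₁ ⊞ G₂).app V ((biprod.fst : G₁ ⊞ G₂ ⟶ G₁).app V z) +
        (biprod.inr : G₂ ⟶ G₁ ⊞ G₂).app V ((biprod.snd : G₁ ⊞ G₂ ⟶ G₂).app V z) :=
      (congrArg (fun φ : G₁ ⊞ G₂ ⟶ G₁ ⊞ G₂ => φ.app V z) (biprod.total (X := G₁) (Y := G₂))).symm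
    rw [ht, h1, h2, map_zero, map_zero, add_zero]
  · intro s
    let x : Γ(N, V) := k.app V s
    let NS : TopCat.Sheaf Ab.{u} X.toTopCat := ⟨N.presheaf, N.isSheaf⟩
    let W : Bool → X.Opens := fun t => cond t (V ⊓ U₂) (V ⊓ U₁)
    let sf : ∀ t, Γ(N, W t) := fun t => Bool.rec 0 (resM N inf_le_left x) t
    have hWV : ∀ t, W t ≤ V := fun t => by cases t <;> exact inf_le_left
    have h12 : resM N (inf_le_left : V ⊓ (U₁ ⊓ U₂) ≤ V) x = 0 := by
      rw [← app_resM]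
      exact (congrArg _ (vres (U₁ ⊓ U₂) G (isNullOn_gammaZ (U₁ ⊓ U₂) N) V s _ inf_le_left inf_le_right)).trans (map_zero _)
    have hle : ∀ (A B : X.Opens), A ≤ V → A ≤ U₁ → A ≤ U₂ → ∀ (hA : A ≤ B) (hB : B ≤ V),
        resM N hA (resM N hB x) = 0 := fun A B hAV h₁ h₂ hA hB => by
      have hA' : A ≤ V ⊓ (U₁ ⊓ U₂) := le_inf hAV (le_inf h₁ h₂)
      rw [resM_resM, ← resM_resM N (inf_le_left : V ⊓ (U₁ ⊓ U₂) ≤ V) hA', h12, map_zero]
    obtain ⟨y, hy, -⟩ := NS.existsUnique_gluing' W V (fun t => homOfLE (hWV t)) (fun w hw => by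
        rcases (h.ge (Opens.mem_top w) : w ∈ U₁ ∨ w ∈ U₂) with hw₁ | hw₂
        · exact Opens.mem_iSup.2 ⟨false, hw, hw₁⟩
        · exact Opens.mem_iSup.2 ⟨true, hw, hw₂⟩) sf (fun t t' => by
        show resM N (inf_le_left : W t ⊓ W t' ≤ W t) (sf t) = resM N (inf_le_right : W t ⊓ W t' ≤ W t') (sf t')
        cases t <;> cases t'
        · rfl
        · exact (map_zero _).trans (hle _ _ (inf_le_left.trans inf_le_left) (inf_le_left.trans inf_le_right)
            (inf_le_right.trans inf_le_right) _ _).symm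
        · exact ((hle _ _ (inf_le_left.trans inf_le_left) (inf_le_right.trans inf_le_right)
            (inf_le_left.trans inf_le_right) _ _).trans (map_zero _).symm)
        · rfl)
    have hy₁ : resM N (inf_le_left : V ⊓ U₁ ≤ V) y = 0 := hy false
    have hy₂ : resM N (inf_le_left : V ⊓ U₂ ≤ V) y = resM N inf_le_left x := hy true
    have hu : ∀ (U : X.Opens) (t : Γ(N, V)), resM N (inf_le_left : V ⊓ U ≤ V) t = 0 →
        ((Scheme.Modules.restrictAdjunction U.ι).unit.app N).app V t = 0 := fun U t ht => by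
      refine (unit_restrict_app U N V t).trans ?_
      have hle' : U.ι ''ᵁ (U.ι ⁻¹ᵁ V) ≤ V ⊓ U :=
        le_inf (leOfHom (U.ι.opensFunctorAdjunction.counit.app V)) (image_preimage_le U V)
      exact (resM_resM N (inf_le_left : V ⊓ U ≤ V) hle' t).symm.trans ((congrArg _ ht).trans (map_zero _))
    obtain ⟨c₁, hc₁⟩ := kernel_sections_exact _ y (hu U₁ y hy₁)
    obtain ⟨c₂, hc₂⟩ := kernel_sections_exact _ (x - y) (hu U₂ (x - y) (by rw [map_sub, hy₂, sub_self]))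
    refine ⟨(biprod.inl : G₁ ⟶ G₁ ⊞ G₂).app V c₁ + (biprod.inr : G₂ ⟶ G₁ ⊞ G₂).app V c₂, app_injective_of_mono k V ?_⟩
    rw [map_add, map_add]
    have e₁ : k.app V (ψ.app V ((biprod.inl : G₁ ⟶ G₁ ⊞ G₂).app V c₁)) = y :=
      (congrArg (fun φ : G₁ ⟶ N => φ.app V c₁) (show biprod.inl ≫ ψ ≫ k = k₁ by simp [ψ, ha])).trans hc₁
    have e₂ : k.app V (ψ.app V ((biprod.inr : G₂ ⟶ G₁ ⊞ G₂).app V c₂)) = x - y :=
      (congrArg (fun φ : G₂ ⟶ N => φ.app V c₂) (show biprod.inr ≫ ψ ≫ k = k₂ by simp [ψ, hb])).trans hc₂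
    exact (congrArg₂ (· + ·) e₁ e₂).trans (add_sub_cancel y x)

/-- Vanishing of a derived functor built on `Γ` of a disjoint union from the pieces. -/
theorem isZero_rightDerived_split (h : U₁ ⊔ U₂ = ⊤) (S : X.Modules ⥤ X.Modules) [S.Additive]
    [(DCoh.gammaZ U₁.ι).Additive] [(DCoh.gammaZ U₂.ι).Additive] [(DCoh.gammaZ (U₁ ⊓ U₂).ι).Additive]
    [HasInjectiveResolutions X.Modules] (G : X.Modules) (n : ℕ)
    (h₁ : IsZero (((S ⋙ DCoh.gammaZ U₁.ι).rightDerived n).obj G))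
    (h₂ : IsZero (((S ⋙ DCoh.gammaZ U₂.ι).rightDerived n).obj G)) :
    IsZero (((S ⋙ DCoh.gammaZ (U₁ ⊓ U₂).ι).rightDerived n).obj G) := by
  let I := injectiveResolution G
  let T₁ := S ⋙ DCoh.gammaZ U₁.ι
  let T₂ := S ⋙ DCoh.gammaZ U₂.ι
  let T := S ⋙ DCoh.gammaZ (U₁ ⊓ U₂).ι
  let i₁ : T₁ ⟶ T := Functor.whiskerLeft S (gammaIncl U₁ (inf_le_left : U₁ ⊓ U₂ ≤ U₁))
  let i₂ : T₂ ⟶ T := Functor.whiskerLeft S (gammaIncl U₂ (inf_le_right : U₁ ⊓ U₂ ≤ U₂))
  haveI : ∀ N, IsIso (biprod.desc (i₁.app N) (i₂.app N)) := fun N => isIso_splitMap U₁ U₂ h (S.obj N)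
  have nat₁ : ∀ {N N' : X.Modules} (φ : N ⟶ N'),
      T.map φ ≫ inv (biprod.desc (i₁.app N') (i₂.app N')) =
        inv (biprod.desc (i₁.app N) (i₂.app N)) ≫ biprod.map (T₁.map φ) (T₂.map φ) := fun {N N'} φ => by
    rw [IsIso.eq_inv_comp, ← Category.assoc, IsIso.comp_inv_eq]
    apply biprod.hom_ext' <;> simp
  let p₁ : T ⟶ T₁ :=
    { app := fun N => inv (biprod.desc (i₁.app N) (i₂.app N)) ≫ biprod.fst
      naturality := fun N N' φ => by rw [← Category.assoc, nat₁, Category.assoc, biprod.map_fst, Category.assoc] }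
  let p₂ : T ⟶ T₂ :=
    { app := fun N => inv (biprod.desc (i₁.app N) (i₂.app N)) ≫ biprod.snd
      naturality := fun N N' φ => by rw [← Category.assoc, nat₁, Category.assoc, biprod.map_snd, Category.assoc] }
  have tot : ∀ N, p₁.app N ≫ i₁.app N + p₂.app N ≫ i₂.app N = 𝟙 _ := fun N => by
    rw [← IsIso.inv_hom_id (biprod.desc (i₁.app N) (i₂.app N))]
    show (inv _ ≫ biprod.fst) ≫ _ + (inv _ ≫ biprod.snd) ≫ _ = _
    rw [Category.assoc, Category.assoc, ← Preadditive.comp_add, ← biprod.desc_eq]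
  let L := fun (T' : X.Modules ⥤ X.Modules) [T'.Additive] =>
    (T'.mapHomologicalComplex (ComplexShape.up ℕ)).obj I.cocomplex
  let P₁ : L T ⟶ L T₁ := (NatTrans.mapHomologicalComplex p₁ (ComplexShape.up ℕ)).app I.cocomplex
  let P₂ : L T ⟶ L T₂ := (NatTrans.mapHomologicalComplex p₂ (ComplexShape.up ℕ)).app I.cocomplex
  let J₁ : L T₁ ⟶ L T := (NatTrans.mapHomologicalComplex i₁ (ComplexShape.up ℕ)).app I.cocomplex
  let J₂ : L T₂ ⟶ L T := (NatTrans.mapHomologicalComplex i₂ (ComplexShape.up ℕ)).app I.cocomplex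
  have hid : P₁ ≫ J₁ + P₂ ≫ J₂ = 𝟙 (L T) := by
    ext k : 1
    exact tot (I.cocomplex.X k)
  refine IsZero.of_iso ?_ (I.isoRightDerivedObj T n)
  have z₁ := h₁.of_iso (I.isoRightDerivedObj T₁ n).symm
  have z₂ := h₂.of_iso (I.isoRightDerivedObj T₂ n).symm
  have hmap := congrArg (fun φ : L T ⟶ L T => HomologicalComplex.homologyMap φ n) hid
  simp only [HomologicalComplex.homologyMap_add, HomologicalComplex.homologyMap_comp,
    HomologicalComplex.homologyMap_id, z₁.eq_of_tgt (HomologicalComplex.homologyMap P₁ n) 0,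
    z₂.eq_of_tgt (HomologicalComplex.homologyMap P₂ n) 0, zero_comp, add_zero] at hmap
  exact (IsZero.iff_id_eq_zero _).2 hmap.symm

end Split

variable [IsLocallyNoetherian X] [HasInjectiveResolutions (ModSite.Mod X.sheaf)]

/-- Sheaf `Ext` with supports into `O` vanishes away from the dimension of the local rings. -/
theorem isZero_extZSh_of_ne_dim (hreg : ∀ x : X, IsRegularLocalRing (X.presheaf.stalk x)) (U : X.Opens)
    (F : X.Modules) (hF : Coh.IsCoh F) (n : ℕ)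
    (hn : ∀ x ∈ CohB1.support F, x ∉ (U : Set X) → ringKrullDim (X.presheaf.stalk x) ≠ (n : WithBot ℕ∞))
    [ModSite.HasSheafHom (O := X.sheaf) F] :
    IsZero ((ModSite.extZSh (O := X.sheaf) U F n).obj (Coh.structureModule X)) := by
  haveI hinj : HasInjectiveResolutions X.Modules := hasInjectiveResolutions_modules X
  let O := Coh.structureModule X
  have hO : Coh.IsCoh O := isCoh_structureModule X
  have hcl : IsClosed (CohB1.support F) := isClosed_support F (locallyFinGen_of_isFT F hF.2)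
  let Z : Set X := CohB1.support F ∩ (U : Set X)ᶜ
  have hZ : IsClosed Z := hcl.inter U.isOpen.isClosed_compl
  have hnZ : ∀ x ∈ Z, ringKrullDim (X.presheaf.stalk x) ≠ (n : WithBot ℕ∞) := fun x hx => hn x hx.1 hx.2
  let Zm : Set X := {x ∈ Z | ringKrullDim (X.presheaf.stalk x) < (n : WithBot ℕ∞)}
  let Zp : Set X := {x ∈ Z | ¬ ringKrullDim (X.presheaf.stalk x) < (n : WithBot ℕ∞)}
  have hup : ∀ a b : X, a ∈ Z → ¬ ringKrullDim (X.presheaf.stalk a) < (n : WithBot ℕ∞) → a ⤳ b →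
      ¬ ringKrullDim (X.presheaf.stalk b) < (n : WithBot ℕ∞) := fun a b _ ha hab hb => by
    refine ha (lt_of_le_of_lt ?_ hb)
    obtain ⟨P, rfl⟩ : a ∈ Set.range (X.fromSpecStalk b) := by rw [Scheme.range_fromSpecStalk]; exact hab
    rw [CycLib28.ringKrullDim_stalk_eq_height]
    exact Ideal.height_le_ringKrullDim_of_ne_top P.2.ne_top
  have hm : IsClosed Zm := isClosed_of_stable hZ (fun x hx => hx.1)
    (fun a b ha hab => ⟨hZ.stableUnderSpecialization hab ha.1, dim_lt_of_specializes hreg hZ n hnZ ha.1 hab ha.2⟩)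
    (fun a b ha hb hab => ⟨ha, not_not.1 fun h => hup a b ha h hab hb.2⟩)
  have hp : IsClosed Zp := isClosed_of_stable hZ (fun x hx => hx.1)
    (fun a b ha hab => ⟨hZ.stableUnderSpecialization hab ha.1, hup a b ha.1 ha.2 hab⟩)
    (fun a b ha hb hab => ⟨ha, fun h => hb.2 (dim_lt_of_specializes hreg hZ n hnZ ha hab h)⟩)
  let U₁ : X.Opens := ⟨Zmᶜ, hm.isOpen_compl⟩
  let U₂ : X.Opens := ⟨Zpᶜ, hp.isOpen_compl⟩
  have htop : U₁ ⊔ U₂ = ⊤ := top_le_iff.1 fun x _ => by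
    by_cases hx : x ∈ Zm
    · exact Or.inr fun hx' => hx'.2 hx.2
    · exact Or.inl hx
  have hle : U ≤ U₁ ⊓ U₂ := fun x hx => ⟨fun h => h.1.2 hx, fun h => h.1.2 hx⟩
  obtain ⟨e⟩ := nonempty_gammaZ_hom_iso U (U₁ ⊓ U₂) hle F hcl fun x hx hxU hxF =>
    (Classical.em (ringKrullDim (X.presheaf.stalk x) < (n : WithBot ℕ∞))).elim
      (fun h => hx.1 ⟨⟨hxF, hxU⟩, h⟩) (fun h => hx.2 ⟨⟨hxF, hxU⟩, h⟩)
  let S : X.Modules ⥤ X.Modules := ModSite.sheafHom (O := X.sheaf) F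
  haveI : S.Additive := ModSite.sheafHom_additive X.sheaf F
  haveI : ∀ W : X.Opens, (DCoh.gammaZ W.ι).Additive := fun W =>
    haveI : (ModSite.sectOn X.sheaf W : X.Modules ⥤ X.Modules).Additive := ModSite.sectOn_additive X.sheaf W
    Functor.additive_of_iso (sectOnIsoGammaZ W)
  have key : ∀ W : X.Opens, ∀ T : X.Modules ⥤ X.Modules, ∀ [T.Additive],
      (T ≅ DCoh.gammaZ W.ι) → (IsZero (((S ⋙ T).rightDerived n).obj O) ↔
        IsZero (((S ⋙ DCoh.gammaZ W.ι).rightDerived n).obj O)) := fun W T _ i =>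
    ((SiteCoh.rightDerivedCongr (Functor.isoWhiskerLeft S i) n).app O).isZero_iff
  have hT : ∀ W : X.Opens, (ModSite.sectOn X.sheaf W : X.Modules ⥤ X.Modules).Additive := fun W =>
    ModSite.sectOn_additive X.sheaf W
  haveI := hT U
  haveI := hT U₁
  haveI := hT U₂
  have h₁ : IsZero (((S ⋙ DCoh.gammaZ U₁.ι).rightDerived n).obj O) :=
    (key U₁ _ (sectOnIsoGammaZ U₁)).1 (isZero_extZSh_of_dim hreg U₁ F O hF hO n fun x _ hx =>
      (not_not.1 hx : x ∈ Zm).2)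
  have h₂ : IsZero (((S ⋙ DCoh.gammaZ U₂.ι).rightDerived n).obj O) :=
    (key U₂ _ (sectOnIsoGammaZ U₂)).1 (isZero_extZSh_of_depth U₂ F O hF hO (n + 1) (fun x _ hx => by
      have hxp : x ∈ Zp := not_not.1 hx
      haveI := hreg x
      haveI := CAlgH3.isCohenMacaulayLocalRing_of_regular (X.presheaf.stalk x)
      rw [← CAlgH3.depth_congr (EGA43.FibDepth.unitStalkEquiv x)]
      have hd := (CAlgH3.isCohenMacaulayLocalRing_iff_depth (X.presheaf.stalk x)).1 inferInstance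
      have hgt : (n : WithBot ℕ∞) < ringKrullDim (X.presheaf.stalk x) :=
        lt_of_le_of_ne (not_lt.1 hxp.2) (hnZ x hxp.1).symm
      rw [hd] at hgt
      have hgt' : (n : ℕ∞) < _root_.LocCoh.depth (X.presheaf.stalk x) (X.presheaf.stalk x) :=
        WithBot.coe_lt_coe.1 hgt
      rw [Nat.cast_add, Nat.cast_one]
      exact (ENat.add_one_le_iff (ENat.natCast_ne_top n)).2 hgt') n (Nat.lt_succ_self n))
  have h₁₂ := isZero_rightDerived_split U₁ U₂ htop S O n h₁ h₂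
  let eS : S ≅ internalHomFunctor F := SerreDual.msSheafHomIso F
  haveI : (internalHomFunctor F).Additive := SerreDual.additive_internalHomFunctor F
  let e₀ : S ⋙ DCoh.gammaZ U.ι ≅ S ⋙ DCoh.gammaZ (U₁ ⊓ U₂).ι :=
    Functor.isoWhiskerRight eS _ ≪≫ e ≪≫ Functor.isoWhiskerRight eS.symm _
  exact (key U _ (sectOnIsoGammaZ U)).2 (h₁₂.of_iso ((SiteCoh.rightDerivedCongr e₀ n).app O))

end Groth.Agent.ExtSS
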