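import Groth.Agent.ExtSS.Null
import Groth.Agent.SiteCoh.ExtAdj
import Groth.Agent.DCat.ModulesGrothendieck
import Groth.Agent.DerCompLib.ExtZero

/-!
# Ext out of an extension by zero
-/

set_option autoImplicit false
set_option backward.isDefEq.respectTransparency false

universe w w' u v u₁

open CategoryTheory CategoryTheory.Limits CategoryTheory.Abelian

namespace Groth.Agent.ExtSS

/-- Change of universe of Ext, additively. -/
noncomputable def chgUnivAdd {A : Type u₁} [Category.{v} A] [Abelian A] [HasExt.{w} A] [HasExt.{w'} A]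
    (X Y : A) (n : ℕ) : Ext.{w} X Y n ≃+ Ext.{w'} X Y n :=
  { Ext.chgUniv.{w', w} with
    map_add' := fun a b => by
      letI := HasDerivedCategory.standard A
      apply Ext.homEquiv.injective
      change Ext.homEquiv (Ext.chgUniv.{w'} (a + b)) =
        Ext.homEquiv (Ext.chgUniv.{w'} a + Ext.chgUniv.{w'} b)
      erw [Ext.homEquiv_chgUniv]
      change (a + b).hom = (Ext.chgUniv.{w'} a + Ext.chgUniv.{w'} b).hom
      rw [Ext.add_hom, Ext.add_hom]
      exact (congrArg₂ (· + ·) (Ext.homEquiv_chgUniv a) (Ext.homEquiv_chgUniv b)).symm }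

variable {C : Type u} [SmallCategory C] {J : GrothendieckTopology C} {O : Sheaf J CommRingCat.{u}}

/-- `Ext(j_! A, N) ≅ Ext(A, N|_U)`. -/
theorem nonempty_ext_extZero (U : C) [HasExt.{w} (ModSite.Mod O)] [HasExt.{w'} (ModSite.Mod (O.over U))]
    (A : ModSite.Mod (O.over U)) (N : ModSite.Mod O) (i : ℕ) :
    Nonempty (Ext.{w} ((ModSite.extZero O U).obj A) N i ≃+ Ext.{w'} A ((ModSite.restr O U).obj N) i) := by
  haveI : HasExt.{u} (ModSite.Mod O) := inferInstance
  haveI : HasExt.{u} (ModSite.Mod (O.over U)) := inferInstance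
  haveI : EnoughInjectives (ModSite.Mod O) := inferInstance
  haveI : ModSite.HasPushOver O U := DerCompLib.hasPushOver O U
  haveI : PreservesColimitsOfSize.{0, 0} (ModSite.restr O U) :=
    (ModSite.restrPushOverAdj O U).leftAdjoint_preservesColimits
  haveI : PreservesFiniteColimits (ModSite.restr O U) := ⟨fun _ _ _ => inferInstance⟩
  obtain ⟨e⟩ := SiteCoh.extAdjEquiv_of_exact (ModSite.extZeroAdj O U) N A i
  exact ⟨(chgUnivAdd.{w, u} _ _ i).trans (e.symm.trans (chgUnivAdd.{u, w'} _ _ i))⟩

end Groth.Agent.ExtSS
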