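import Groth.Agent.ExtSS.Supports

/-!
# The abelian sheaf `ℤ / ℤ_U` and sections with support
-/

set_option autoImplicit false
set_option backward.isDefEq.respectTransparency false

universe u v w

open CategoryTheory CategoryTheory.Limits CategoryTheory.Abelian Opposite
open Groth.Agent.DerCompLib

namespace Groth.Agent.ExtSS

/-- Maps out of a cokernel. -/
noncomputable def cokerHomEquiv {A : Type w} [Category.{v} A] [Abelian A] {X Y : A} (f : X ⟶ Y) (Z : A) :
    (cokernel f ⟶ Z) ≃ {g : Y ⟶ Z // f ≫ g = 0} where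
  toFun h := ⟨cokernel.π f ≫ h, by rw [cokernel.condition_assoc, zero_comp]⟩
  invFun g := cokernel.desc f g.1 g.2
  left_inv h := coequalizer.hom_ext (cokernel.π_desc _ _ _)
  right_inv g := Subtype.ext (cokernel.π_desc _ _ _)

variable {C : Type u} [SmallCategory C] (J : GrothendieckTopology C)

/-- The one point sheaf is terminal. -/
noncomputable def isTerminalPtSheaf : IsTerminal (S0491.ptSheaf J) :=
  IsTerminal.ofUniqueHom (fun A => ⟨{ app := fun V => ↾(fun _ => PUnit.unit) }⟩)
    fun A m => by ext V x; exact Subsingleton.elim (α := PUnit.{u + 1}) _ _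

/-- The final object of the topos. -/
noncomputable abbrev topPre : Cᵒᵖ ⥤ Type u := (⊤_ (Sheaf J (Type u))).obj

/-- The final object, as the one point presheaf. -/
noncomputable def topPreIso : topPre J ≅ (S0491.ptSheaf J).obj :=
  (sheafToPresheaf J (Type u)).mapIso (terminalIsTerminal.uniqueUpToIso (isTerminalPtSheaf J))

theorem subsingleton_topPre (V : Cᵒᵖ) : Subsingleton ((topPre J).obj V) :=
  ⟨fun x y => ((topPreIso J).app V).toEquiv.injective (Subsingleton.elim (α := PUnit.{u + 1}) _ _)⟩

/-- The point of the final object. -/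
noncomputable def topPt (V : Cᵒᵖ) : (topPre J).obj V := ((topPreIso J).app V).inv PUnit.unit

variable (U : C)

/-- The map from the representable presheaf to the final object. -/
noncomputable def toTop : yoneda.obj U ⟶ topPre J :=
  toSheafify J (yoneda.obj U) ≫ (terminal.from (ToposFin.eps J U)).hom

theorem freeAbHomEquiv_pre {K K' : Cᵒᵖ ⥤ Type u} (w : K' ⟶ K) (A : Sheaf J AddCommGrpCat.{u})
    (t : SiteDer16.freeAbSheaf (J := J) K ⟶ A) :
    SiteDer16.freeAbHomEquiv K' A
        ((presheafToSheaf J AddCommGrpCat.{u}).map (Functor.whiskerRight w AddCommGrpCat.free.{u}) ≫ t) =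
      w ≫ SiteDer16.freeAbHomEquiv K A t :=
  (congrArg _ ((sheafificationAdjunction J AddCommGrpCat.{u}).homEquiv_naturality_left _ t)).trans
    ((AddCommGrpCat.adj.{u}.whiskerRight Cᵒᵖ).homEquiv_naturality_left w _)

theorem freeAbHomEquiv_zero {K : Cᵒᵖ ⥤ Type u} (A : Sheaf J AddCommGrpCat.{u}) (V : Cᵒᵖ) (k : K.obj V) :
    (SiteDer16.freeAbHomEquiv (J := J) K A 0).app V k = (0 : A.obj.obj V) := by
  simp [SiteDer16.freeAbHomEquiv, Adjunction.homEquiv_unit]
  rfl

instance epi_free_toSheafify (K : Cᵒᵖ ⥤ Type u) :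
    Epi ((presheafToSheaf J AddCommGrpCat.{u}).map
      (Functor.whiskerRight (toSheafify J K) AddCommGrpCat.free.{u})) := by
  refine ⟨fun {A} a b h => ?_⟩
  apply (SiteDer16.freeAbHomEquiv _ A).injective
  have h' := congrArg (SiteDer16.freeAbHomEquiv K A) h
  rw [freeAbHomEquiv_pre, freeAbHomEquiv_pre] at h'
  exact sheafify_hom_ext J _ _ ((Presheaf.isSheaf_iff_isSheaf_forget J A.obj
    (CategoryTheory.forget AddCommGrpCat.{u})).1 A.property) h'

/-- The presheaf quotient behind `ℤ / ℤ_U`. -/
noncomputable abbrev quotPre : Cᵒᵖ ⥤ AddCommGrpCat.{u} :=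
  cokernel (Functor.whiskerRight (toTop J U) AddCommGrpCat.free.{u})

/-- `ℤ / ℤ_U` is the associated sheaf of the presheaf quotient. -/
noncomputable def quotZIso :
    (presheafToSheaf J AddCommGrpCat.{u}).obj (quotPre J U) ≅ ToposFin.quotZ (ToposFin.eps J U) :=
  PreservesCokernel.iso (presheafToSheaf J AddCommGrpCat.{u}) _ ≪≫
    cokernelIsoOfEq (show (presheafToSheaf J AddCommGrpCat.{u}).map
        (Functor.whiskerRight (toTop J U) AddCommGrpCat.free.{u}) =
      (presheafToSheaf J AddCommGrpCat.{u}).map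
          (Functor.whiskerRight (toSheafify J (yoneda.obj U)) AddCommGrpCat.free.{u}) ≫
        (ToposFin.freeAb J).map (terminal.from (ToposFin.eps J U)) by
      rw [toTop, Functor.whiskerRight_comp, Functor.map_comp]
      rfl) ≪≫
    cokernelEpiComp _ _

theorem isTF_quotPre : TotAc16.IsTF (quotPre J U) := fun V => by
  let f := Functor.whiskerRight (toTop J U) AddCommGrpCat.free.{u}
  let p : AddCommGrpCat.free.obj ((topPre J).obj V) ⟶ (quotPre J U).obj V := (cokernel.π f).app V
  have hp : Function.Surjective p := (AddCommGrpCat.epi_iff_surjective _).1 inferInstance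
  by_cases hV : Nonempty (V.unop ⟶ U)
  · obtain ⟨φ⟩ := hV
    have h0 : ∀ z : FreeAbelianGroup ((topPre J).obj V), p z = 0 := fun z => by
      induction z using FreeAbelianGroup.induction_on with
      | zero => exact map_zero _
      | of t =>
        haveI := subsingleton_topPre J V
        rw [Subsingleton.elim t ((toTop J U).app V φ)]
        exact ConcreteCategory.congr_hom (congr($(cokernel.condition f).app V)) (FreeAbelianGroup.of φ)
      | neg t ih => exact (map_neg _ _).trans (neg_eq_zero.2 ih)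
      | add a b ha hb => exact (map_add _ _ _).trans (by rw [ha, hb, add_zero])
    have : Subsingleton ((quotPre J U).obj V) := ⟨fun a b => by
      obtain ⟨a, rfl⟩ := hp a
      obtain ⟨b, rfl⟩ := hp b
      rw [h0, h0]⟩
    infer_instance
  · have : IsEmpty ((yoneda.obj U).obj V) := ⟨fun φ => hV ⟨φ⟩⟩
    have hf : f.app V = 0 := by
      refine AddCommGrpCat.hom_ext (FreeAbelianGroup.lift_ext _ _ fun z => ?_)
      exact (IsEmpty.false z).elim
    have hi : IsIso ((cokernel.π f).app V) := by
      have hc := CokernelCofork.mapIsColimit _ (cokernelIsCokernel f)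
        ((evaluation Cᵒᵖ AddCommGrpCat.{u}).obj V)
      exact CokernelCofork.IsColimit.isIso_π _ hc hf
    haveI : Module.Flat ℤ (FreeAbelianGroup ((topPre J).obj V)) := TotAc16.flat_free _
    exact TotAc16.flat_of_injective (Y := FreeAbelianGroup ((topPre J).obj V))
      (inv ((cokernel.π f).app V)).hom
      ((AddCommGrpCat.mono_iff_injective (inv ((cokernel.π f).app V))).1 inferInstance)

/-- `H^{≥ 1}_Z` vanishes on the internal hom into an injective. -/
theorem subsingleton_ext_quotZ {O : Sheaf J CommRingCat.{u}} (M Q : ModSite.Mod O)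
    [ModSite.HasSheafHom M] [Injective Q] (k : ℕ) :
    Subsingleton (Ext.{u} (ToposFin.quotZ (ToposFin.eps J U))
      (ModSite.toAb ((ModSite.sheafHom M).obj Q)) (k + 1)) :=
  S0491.subsingleton_of_iso J (quotZIso J U) (k + 1)
    (TotAc16.subsingleton_ext J (TotAc16.extends_sheafHom M Q) k _ (isTF_quotPre J U))

variable {J} {O : Sheaf J CommRingCat.{u}}

/-- Global sections, as maps out of the free sheaf on the final object. -/
noncomputable def topHomEquiv (F : ModSite.Mod O) :
    (ModSite.unit O ⟶ F) ≃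
      (SiteDer16.freeAbSheaf (J := J) (topPre J) ⟶ (toAbF O).obj F) :=
  F.unitHomEquiv.trans ((S0491.sectionsEquiv J (ModSite.ringSh O) F).trans
    (((topPreIso J).homCongr (Iso.refl _)).symm.trans (SiteDer16.freeAbHomEquiv (topPre J) _).symm))

theorem topHomEquiv_app (F : ModSite.Mod O) (s : ModSite.unit O ⟶ F) (V : Cᵒᵖ) (k : (topPre J).obj V) :
    (SiteDer16.freeAbHomEquiv (topPre J) _ (topHomEquiv F s)).app V k =
      s.val.app V (1 : O.obj.obj V) := by
  simp only [topHomEquiv, Equiv.trans_apply, Equiv.apply_symm_apply]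
  rfl

theorem topHomEquiv_comp {F G : ModSite.Mod O} (s : ModSite.unit O ⟶ F) (g : F ⟶ G) :
    topHomEquiv G (s ≫ g) = topHomEquiv F s ≫ (toAbF O).map g := by
  apply (SiteDer16.freeAbHomEquiv (topPre J) _).injective
  ext V k
  refine (topHomEquiv_app G (s ≫ g) V k).trans ?_
  rw [SiteDer16.freeAbHomEquiv_comp]
  exact (congrArg (g.val.app V) (topHomEquiv_app F s V k)).symm

theorem toTop_comp_eq_zero_iff (F : ModSite.Mod O) (s : ModSite.unit O ⟶ F) :
    (ModSite.extZeroAdj O U).counit.app (ModSite.unit O) ≫ s = 0 ↔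
      (ToposFin.freeAb J).map (terminal.from (ToposFin.eps J U)) ≫ topHomEquiv F s = 0 := by
  have h1 : (ModSite.extZeroAdj O U).counit.app (ModSite.unit O) ≫ s = 0 ↔
      ∀ (V : C) (_ : V ⟶ U), s.val.app (op V) (1 : O.obj.obj (op V)) = 0 := by
    constructor
    · intro h V φ
      haveI : ModSite.HasPushOver O U := DerCompLib.hasPushOver O U
      have hs : (ModSite.quotOnπ O U).app (ModSite.unit O) ≫ cokernel.desc _ s h = s :=
        cokernel.π_desc _ _ _
      rw [← hs]
      refine (congrArg (secMap (cokernel.desc _ s h) V) (isNullOn_sec U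
        (ExtSupp.isNullOn_quotOn O U (ModSite.unit O)) φ _)).trans ?_
      exact map_zero _
    · intro h
      rw [← ExtSupp.mem_homZ_iff]
      show (ModSite.restr O U).map s = 0
      apply (SheafOfModules.toSheaf _).map_injective
      ext Y m
      show s.val.app (op (unop Y).left) m = 0
      rw [← mul_one (M := O.obj.obj (op (unop Y).left)) m, ← smul_eq_mul]
      refine ((s.val.app (op (unop Y).left)).hom.map_smul _ _).trans ?_
      exact (congrArg (m • ·) (h _ (unop Y).hom)).trans (smul_zero _)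
  rw [h1, ← cancel_epi ((presheafToSheaf J AddCommGrpCat.{u}).map
      (Functor.whiskerRight (toSheafify J (yoneda.obj U)) AddCommGrpCat.free.{u})), comp_zero]
  have h2 : (presheafToSheaf J AddCommGrpCat.{u}).map
        (Functor.whiskerRight (toSheafify J (yoneda.obj U)) AddCommGrpCat.free.{u}) ≫
      (ToposFin.freeAb J).map (terminal.from (ToposFin.eps J U)) ≫ topHomEquiv F s =
      (presheafToSheaf J AddCommGrpCat.{u}).map (Functor.whiskerRight (toTop J U) AddCommGrpCat.free.{u}) ≫
        topHomEquiv F s := by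
    rw [toTop, Functor.whiskerRight_comp, Functor.map_comp, Category.assoc]
    rfl
  rw [h2, ← (SiteDer16.freeAbHomEquiv (yoneda.obj U) _).injective.eq_iff, freeAbHomEquiv_pre]
  constructor
  · intro h
    ext V φ
    refine Eq.trans ?_ (freeAbHomEquiv_zero J _ V φ).symm
    exact (topHomEquiv_app F s V _).trans (h V.unop φ)
  · intro h V φ
    refine (topHomEquiv_app F s (op V) ((toTop J U).app (op V) φ)).symm.trans ?_
    exact (congr($(h).app (op V) φ)).trans (freeAbHomEquiv_zero J _ _ _)

/-- Sections with support, as maps out of `ℤ / ℤ_U`. -/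
noncomputable def quotUnitEquiv (F : ModSite.Mod O) :
    ((ModSite.quotOn O U).obj (ModSite.unit O) ⟶ F) ≃
      (ToposFin.quotZ (ToposFin.eps J U) ⟶ (toAbF O).obj F) :=
  (cokerHomEquiv _ F).trans (((topHomEquiv F).subtypeEquiv fun s => toTop_comp_eq_zero_iff U F s).trans
    (cokerHomEquiv ((ToposFin.freeAb J).map (terminal.from (ToposFin.eps J U))) _).symm)

theorem quotUnitEquiv_comp {F G : ModSite.Mod O}
    (x : (ModSite.quotOn O U).obj (ModSite.unit O) ⟶ F) (g : F ⟶ G) :
    quotUnitEquiv U G (x ≫ g) = quotUnitEquiv U F x ≫ (toAbF O).map g := by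
  apply coequalizer.hom_ext
  refine (cokernel.π_desc _ _ _).trans ?_
  refine Eq.trans ?_ ((congrArg (· ≫ (toAbF O).map g) (cokernel.π_desc _ _ _).symm).trans (Category.assoc _ _ _))
  show topHomEquiv G (cokernel.π _ ≫ x ≫ g) = _
  rw [← Category.assoc, topHomEquiv_comp]
  rfl

/-- `Hom(ℤ / ℤ_U, -)` on underlying sheaves is `Hom(O / O_U, -)`. -/
noncomputable def quotZHomIso :
    toAbF O ⋙ SpecSeq.homFrom (ToposFin.quotZ (ToposFin.eps J U)) ≅
      SpecSeq.homFrom ((ModSite.quotOn O U).obj (ModSite.unit O)) :=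
  homFromFunctorIso (toAbF O) (fun F => quotUnitEquiv U F) (fun x f => quotUnitEquiv_comp U x f)

/-- `Hom(ℤ / ℤ_U, ℋom(M, -)) ≅ Hom(M/M_U, -)`. -/
noncomputable def quotZCompIso [ModSite.HasPushOver O U] (M : ModSite.Mod O) [ModSite.HasSheafHom M]
    [ModSite.HasSheafHom ((ModSite.quotOn O U).obj M)] :
    (ModSite.sheafHom M ⋙ toAbF O) ⋙ SpecSeq.homFrom (ToposFin.quotZ (ToposFin.eps J U)) ≅
      SpecSeq.homFrom ((ModSite.quotOn O U).obj M) :=
  Functor.associator _ _ _ ≪≫
    Functor.isoWhiskerLeft _ (quotZHomIso U ≪≫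
      (SpecSeq.homFromCompIso (quotSectAdj U) (ModSite.unit O)).symm) ≪≫
    Functor.isoWhiskerLeft _ (Functor.isoWhiskerLeft _
      (NatIso.ofComponents (fun _ => Iso.refl _) (fun _ => rfl) :
        SpecSeq.homFrom (ModSite.unit O) ≅ preadditiveCoyoneda.obj (op (ModSite.unit O)))) ≪≫
    gammaZHomIso U M

end Groth.Agent.ExtSS
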